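import Mathlib

/-!
# A quadratic form attached to a coprime action of an abelian group

For a finite abelian group `A` acting coprimely and faithfully on a finite abelian group `V`, the
form `d ↦ ∑ a, |V : C_V(a)| * |∑ λ, d λ * λ a| ^ 2` dominates, on vectors supported in a given set
`S` of linear characters, a diagonal form whose coefficients on `S` sum to at least `|A| ^ 2`.
This is the arithmetic heart of the abelian-stabiliser criterion for the k(GV) problem.
-/

set_option autoImplicit false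

namespace Cfsg.Agent.KGV

open Finset
open scoped ComplexConjugate

universe u v w

variable {A : Type u} [CommGroup A] [Fintype A]

/-- On every nonempty support `S` the weighted form dominates a diagonal form of total weight at
least `|A| ^ 2`. -/
def Good (A : Type u) [CommGroup A] [Fintype A] (wt : A → ℝ) : Prop :=
  ∀ S : Finset (A →* ℂˣ), S.Nonempty → ∃ c : (A →* ℂˣ) → ℝ, (∀ l, 0 ≤ c l) ∧
    ((Nat.card A : ℝ) ^ 2 ≤ ∑ l ∈ S, c l) ∧
    ∀ d : (A →* ℂˣ) → ℂ, ∑ l ∈ S, c l * ‖d l‖ ^ 2 ≤ ∑ a, wt a * ‖∑ l ∈ S, d l * (l a : ℂ)‖ ^ 2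

theorem finite_dual (A : Type u) [CommGroup A] [Finite A] : Finite (A →* ℂˣ) := by
  refine Nat.finite_of_card_ne_zero ?_
  rw [CommGroup.card_monoidHom_of_hasEnoughRootsOfUnity]
  exact Nat.card_pos.ne'

theorem card_le_of_dual (S : Finset (A →* ℂˣ)) : S.card ≤ Nat.card A := by
  have := finite_dual A
  rw [← CommGroup.card_monoidHom_of_hasEnoughRootsOfUnity A ℂ, ← Nat.card_eq_finsetCard]
  exact Nat.card_le_card_of_injective _ Subtype.val_injective

theorem conj_apply (l : A →* ℂˣ) (a : A) : conj (l a : ℂ) = (l a⁻¹ : ℂ) := by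
  have h1 : (l a : ℂ) ^ Nat.card A = 1 := by
    rw [← Units.val_pow_eq_pow_val, ← map_pow, pow_card_eq_one', map_one, Units.val_one]
  have h2 : ‖(l a : ℂ)‖ = 1 := by
    have h3 := congrArg norm h1
    rw [norm_pow, norm_one] at h3
    exact (pow_eq_one_iff_of_nonneg (norm_nonneg _) Nat.card_pos.ne').1 h3
  rw [map_inv, Units.val_inv_eq_inv_val, Complex.inv_def, Complex.normSq_eq_norm_sq, h2]
  simp

theorem sum_mul_conj [DecidableEq (A →* ℂˣ)] (l l' : A →* ℂˣ) :
    ∑ a, (l a : ℂ) * conj (l' a : ℂ) = if l = l' then (Nat.card A : ℂ) else 0 := by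
  classical
  have h : ∀ a, (l a : ℂ) * conj (l' a : ℂ) = ((Units.coeHom ℂ).comp (l * l'⁻¹)) a := fun a => by
    rw [conj_apply]
    simp
  simp only [h]
  rw [sum_hom_units]
  have hiff : (Units.coeHom ℂ).comp (l * l'⁻¹) = 1 ↔ l = l' := by
    rw [← mul_inv_eq_one (a := l) (b := l')]
    constructor
    · intro h
      ext a
      simpa using DFunLike.congr_fun h a
    · intro h
      rw [h]
      ext a
      simp
  simp only [hiff, Fintype.card_eq_nat_card]
  split_ifs <;> simp

/-- Parseval. -/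
theorem sum_norm_sq (S : Finset (A →* ℂˣ)) (d : (A →* ℂˣ) → ℂ) :
    ∑ a, ‖∑ l ∈ S, d l * (l a : ℂ)‖ ^ 2 = (Nat.card A : ℝ) * ∑ l ∈ S, ‖d l‖ ^ 2 := by
  classical
  have h : ∑ a, (∑ l ∈ S, d l * (l a : ℂ)) * conj (∑ l ∈ S, d l * (l a : ℂ)) =
      (Nat.card A : ℂ) * ∑ l ∈ S, d l * conj (d l) := by
    simp only [map_sum, map_mul, sum_mul_sum]
    rw [sum_comm, mul_sum]
    refine sum_congr rfl fun l hl => ?_
    rw [sum_comm]
    have h' : ∀ l' : A →* ℂˣ, ∑ a, d l * (l a : ℂ) * (conj (d l') * conj (l' a : ℂ)) =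
        d l * conj (d l') * (if l = l' then (Nat.card A : ℂ) else 0) := fun l' => by
      rw [← sum_mul_conj, mul_sum]
      exact sum_congr rfl fun a _ => by ring
    simp only [h', mul_ite, mul_zero, sum_ite_eq, if_pos hl]
    ring
  simp only [Complex.mul_conj, Complex.normSq_eq_norm_sq] at h
  exact_mod_cast h

/-- The fixed-point-free case. -/
theorem good_base (wt : A → ℝ) (h1 : 1 ≤ wt 1) (h : ∀ a, a ≠ 1 → (Nat.card A : ℝ) + 1 ≤ wt a) :
    Good A wt := by
  classical
  intro S hS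
  set n : ℝ := (Nat.card A : ℝ) with hn
  set t : ℝ := (S.card : ℝ) with ht
  have ht1 : 1 ≤ t := by rw [ht]; exact_mod_cast hS.card_pos
  have htn : t ≤ n := by rw [ht, hn]; exact_mod_cast card_le_of_dual S
  have hc : 0 ≤ n * (n + 1) - n * t := by nlinarith
  refine ⟨fun _ => n * (n + 1) - n * t, fun _ => hc, ?_, fun d => ?_⟩
  · rw [sum_const, nsmul_eq_mul, ← ht]
    nlinarith [mul_nonneg (mul_nonneg (sub_nonneg.2 htn) (sub_nonneg.2 ht1))
      (show (0 : ℝ) ≤ n by linarith)]
  · set f : A → ℝ := fun a => ‖∑ l ∈ S, d l * (l a : ℂ)‖ ^ 2 with hf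
    have hpar : ∑ a, f a = n * ∑ l ∈ S, ‖d l‖ ^ 2 := sum_norm_sq S d
    have hone : f 1 ≤ t * ∑ l ∈ S, ‖d l‖ ^ 2 := by
      simp only [hf, map_one, Units.val_one, mul_one]
      refine (pow_le_pow_left₀ (norm_nonneg _) (norm_sum_le _ _) 2).trans ?_
      exact sq_sum_le_card_mul_sum_sq
    have hlow : (n + 1) * ∑ a, f a - n * f 1 ≤ ∑ a, wt a * f a := by
      rw [← add_sum_erase _ _ (mem_univ (1 : A)), ← add_sum_erase _ _ (mem_univ (1 : A)),
        mul_add, mul_sum]
      have h2 : ∑ a ∈ univ.erase (1 : A), (n + 1) * f a ≤ ∑ a ∈ univ.erase (1 : A), wt a * f a :=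
        sum_le_sum fun a ha =>
          mul_le_mul_of_nonneg_right (h a (ne_of_mem_erase ha)) (by positivity)
      have h3 : 1 * f 1 ≤ wt 1 * f 1 := mul_le_mul_of_nonneg_right h1 (by positivity)
      linarith
    rw [← mul_sum]
    have hn0 : (0 : ℝ) ≤ n := by linarith
    calc (n * (n + 1) - n * t) * ∑ l ∈ S, ‖d l‖ ^ 2
        = (n + 1) * (n * ∑ l ∈ S, ‖d l‖ ^ 2) - n * (t * ∑ l ∈ S, ‖d l‖ ^ 2) := by ring
      _ ≤ (n + 1) * ∑ a, f a - n * f 1 := by
          rw [hpar]
          have := mul_le_mul_of_nonneg_left hone hn0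
          linarith
      _ ≤ _ := hlow

/-- Pulling back along an injective homomorphism. -/
theorem good_comp {B : Type v} [CommGroup B] [Fintype B] (φ : A →* B)
    (hφ : Function.Injective φ) {wB : B → ℝ} (hB : Good B wB)
    {wA : A → ℝ} (hle : ∀ a, wB (φ a) ≤ wA a) : Good A wA := by
  classical
  intro S hS
  have := finite_dual B
  have := finite_dual A
  have := Fintype.ofFinite (B →* ℂˣ)
  let e : A ≃* φ.range := MonoidHom.ofInjective hφ
  let r : (B →* ℂˣ) →* (A →* ℂˣ) :=
    { toFun := fun η => η.comp φ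
      map_one' := by ext; simp
      map_mul' := fun _ _ => by ext; simp }
  have hr : Function.Surjective r := by
    intro l
    obtain ⟨η, hη⟩ := MonoidHom.domRestrict_surjective ℂ φ.range (l.comp e.symm.toMonoidHom)
    refine ⟨η, MonoidHom.ext fun a => ?_⟩
    have h1 := DFunLike.congr_fun hη (e a)
    refine Eq.trans (show r η a = η ((e a : φ.range) : B) from rfl) ?_
    simpa using h1
  set k : Finset (B →* ℂˣ) := univ.filter fun η => r η = 1 with hk
  have hfib : ∀ l, (univ.filter fun η => r η = l).card = k.card := fun l => by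
    exact MonoidHom.card_fiber_eq_of_mem_range r (by simpa using hr l) ⟨1, map_one r⟩
  have hkpos : 0 < k.card := card_pos.2 ⟨1, by simp [hk]⟩
  set S' : Finset (B →* ℂˣ) := univ.filter fun η => r η ∈ S with hS'
  have hS'ne : S'.Nonempty := by
    obtain ⟨l, hl⟩ := hS
    obtain ⟨η, rfl⟩ := hr l
    exact ⟨η, by simp [hS', hl]⟩
  obtain ⟨c', hc0, hcsum, hcbound⟩ := hB S' hS'ne
  have hsplit : ∀ {R : Type} [AddCommMonoid R] (g : (B →* ℂˣ) → R),
      ∑ η ∈ S', g η = ∑ l ∈ S, ∑ η ∈ univ.filter (fun η => r η = l), g η := by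
    intro R _ g
    rw [← sum_fiberwise_of_maps_to (t := S) (g := r)
      (fun η hη => (mem_filter.1 hη).2)]
    refine sum_congr rfl fun l hl => sum_congr ?_ fun _ _ => rfl
    ext η
    simp only [hS', mem_filter, mem_univ, true_and]
    exact ⟨fun h => h.2, fun h => ⟨h ▸ hl, h⟩⟩
  have hkR : (0 : ℝ) < k.card := by exact_mod_cast hkpos
  refine ⟨fun l => (∑ η ∈ univ.filter (fun η => r η = l), c' η) / (k.card : ℝ) ^ 2,
    fun l => div_nonneg (sum_nonneg fun η _ => hc0 η) (sq_nonneg _), ?_, fun d => ?_⟩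
  · rw [← sum_div, ← hsplit c', le_div_iff₀ (by positivity)]
    refine le_trans (le_of_eq ?_) hcsum
    have hcard : Nat.card B = Nat.card A * k.card := by
      rw [← CommGroup.card_monoidHom_of_hasEnoughRootsOfUnity B ℂ,
        ← CommGroup.card_monoidHom_of_hasEnoughRootsOfUnity A ℂ]
      have := Fintype.ofFinite (A →* ℂˣ)
      rw [Nat.card_eq_fintype_card, Nat.card_eq_fintype_card, ← card_univ, ← card_univ,
        card_eq_sum_card_fiberwise (t := univ) (f := r) (fun _ _ => mem_univ _),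
        sum_congr rfl (fun l _ => hfib l), sum_const, smul_eq_mul]
    rw [hcard]
    push_cast
    ring
  · let d' : (B →* ℂˣ) → ℂ := fun η => d (r η)
    have hval : ∀ a, ∑ η ∈ S', d' η * (η (φ a) : ℂ) =
        (k.card : ℂ) * ∑ l ∈ S, d l * (l a : ℂ) := by
      intro a
      rw [hsplit, mul_sum]
      refine sum_congr rfl fun l _ => ?_
      rw [sum_congr rfl (g := fun _ => d l * (l a : ℂ)) (fun η hη => ?_), sum_const, hfib,
        nsmul_eq_mul]
      have hl := (mem_filter.1 hη).2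
      simp only [d']
      rw [← hl]
      rfl
    have hzero : ∀ b, (∀ a, φ a ≠ b) → ∑ η ∈ S', d' η * (η b : ℂ) = 0 := by
      intro b hb
      have hb' : (b : B ⧸ φ.range) ≠ 1 := fun h => by
        obtain ⟨a, ha⟩ := (QuotientGroup.eq_one_iff b).1 h
        exact hb a ha
      have : HasEnoughRootsOfUnity ℂ (Monoid.exponent (B ⧸ φ.range)) := by
        haveI : NeZero (Monoid.exponent (B ⧸ φ.range) : ℂ) :=
          ⟨Nat.cast_ne_zero.2 Monoid.exponent_ne_zero_of_finite⟩
        infer_instance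
      obtain ⟨ν, hν⟩ := CommGroup.exists_apply_ne_one_of_hasEnoughRootsOfUnity (B ⧸ φ.range) ℂ hb'
      let η0 : B →* ℂˣ := ν.comp (QuotientGroup.mk' φ.range)
      have hη0 : r η0 = 1 := by
        ext a
        simp [r, η0, (QuotientGroup.eq_one_iff (N := φ.range) (φ a)).2 (MonoidHom.mem_range.2 ⟨a, rfl⟩)]
      have h1 : ∀ η, r (η0 * η) = r η := fun η => by
        ext a
        have h2 : η0 (φ a) = 1 := DFunLike.congr_fun hη0 a
        show (((η0 (φ a)) * η (φ a) : ℂˣ) : ℂ) = (η (φ a) : ℂ)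
        rw [h2]
        simp
      set s := ∑ η ∈ S', d' η * (η b : ℂ) with hs
      have hs' : (η0 b : ℂ) * s = s := by
        rw [hs, mul_sum]
        refine sum_equiv (Equiv.mulLeft η0) (fun η => ?_) (fun η _ => ?_)
        · simp only [hS', mem_filter, mem_univ, true_and, Equiv.coe_mulLeft, h1]
        · simp only [d', Equiv.coe_mulLeft, h1, MonoidHom.mul_apply, Units.val_mul]
          ring
      have hne : (η0 b : ℂ) - 1 ≠ 0 := sub_ne_zero.2 fun h => hν (Units.ext h)
      exact (mul_eq_zero.1 (show ((η0 b : ℂ) - 1) * s = 0 by rw [sub_mul, one_mul, hs', sub_self])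
        ).resolve_left hne
    have hB := hcbound d'
    rw [hsplit fun η => c' η * ‖d' η‖ ^ 2] at hB
    have hlhs : ∀ l, ∑ η ∈ univ.filter (fun η => r η = l), c' η * ‖d' η‖ ^ 2 =
        (∑ η ∈ univ.filter (fun η => r η = l), c' η) * ‖d l‖ ^ 2 := fun l => by
      rw [sum_mul]
      exact sum_congr rfl fun η hη => by simp [d', (mem_filter.1 hη).2]
    simp only [hlhs] at hB
    have hrhs : ∑ b, wB b * ‖∑ η ∈ S', d' η * (η b : ℂ)‖ ^ 2 =
        (k.card : ℝ) ^ 2 * ∑ a, wB (φ a) * ‖∑ l ∈ S, d l * (l a : ℂ)‖ ^ 2 := by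
      rw [← sum_subset (subset_univ (univ.image φ)) fun b _ hb => ?_,
        sum_image fun x _ y _ h => hφ h, mul_sum]
      · refine sum_congr rfl fun a _ => ?_
        rw [hval, norm_mul, Complex.norm_natCast]
        ring
      · rw [hzero b fun a ha => hb (mem_image.2 ⟨a, mem_univ _, ha⟩)]
        simp
    rw [hrhs] at hB
    have hmono : ∑ a, wB (φ a) * ‖∑ l ∈ S, d l * (l a : ℂ)‖ ^ 2 ≤
        ∑ a, wA a * ‖∑ l ∈ S, d l * (l a : ℂ)‖ ^ 2 :=
      sum_le_sum fun a _ => mul_le_mul_of_nonneg_right (hle a) (sq_nonneg _)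
    refine le_trans (le_of_eq_of_le ?_ ((div_le_iff₀ (by positivity : (0 : ℝ) < (k.card : ℝ) ^ 2)).2
      (hB.trans (le_of_eq (mul_comm _ _))))) hmono
    rw [sum_div]
    exact sum_congr rfl fun l _ => by ring

/-- Products. -/
theorem good_prod {B : Type v} [CommGroup B] [Fintype B] {wA : A → ℝ} {wB : B → ℝ}
    (hA : Good A wA) (hB : Good B wB) (hB0 : ∀ b, 0 ≤ wB b) :
    Good (A × B) (fun x => wA x.1 * wB x.2) := by
  classical
  intro S hS
  let p1 : (A × B →* ℂˣ) → (A →* ℂˣ) := fun η => η.comp (MonoidHom.inl A B)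
  let p2 : (A × B →* ℂˣ) → (B →* ℂˣ) := fun η => η.comp (MonoidHom.inr A B)
  have hmul : ∀ (η : A × B →* ℂˣ) (a : A) (b : B), η (a, b) = p1 η a * p2 η b := fun η a b => by
    simp [p1, p2, ← map_mul]
  have hinj : ∀ l, Set.InjOn p2 (S.filter fun η => p1 η = l) := by
    intro l η hη η' hη' h
    rw [mem_coe, mem_filter] at hη hη'
    ext ⟨a, b⟩
    rw [hmul, hmul, hη.2, hη'.2, h]
  obtain ⟨c1, hc10, hc1sum, hc1⟩ := hA (S.image p1) (hS.image p1)
  have hex : ∀ l, ∃ c2 : (B →* ℂˣ) → ℝ, (∀ ν, 0 ≤ c2 ν) ∧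
      (l ∈ S.image p1 → (Nat.card B : ℝ) ^ 2 ≤ ∑ η ∈ S.filter (fun η => p1 η = l), c2 (p2 η)) ∧
      ∀ d : (A × B →* ℂˣ) → ℂ,
        ∑ η ∈ S.filter (fun η => p1 η = l), c2 (p2 η) * ‖d η‖ ^ 2 ≤
          ∑ b, wB b * ‖∑ η ∈ S.filter (fun η => p1 η = l), d η * (p2 η b : ℂ)‖ ^ 2 := by
    intro l
    set T := S.filter fun η => p1 η = l with hT
    by_cases hl : l ∈ S.image p1
    · have hTne : T.Nonempty := by
        obtain ⟨η, hη, rfl⟩ := mem_image.1 hl
        exact ⟨η, mem_filter.2 ⟨hη, rfl⟩⟩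
      obtain ⟨c2, h0, hsum, hbd⟩ := hB (T.image p2) (hTne.image p2)
      rw [sum_image (hinj l)] at hsum
      refine ⟨c2, h0, fun _ => hsum, fun d => ?_⟩
      let d2 : (B →* ℂˣ) → ℂ := fun ν => ∑ η ∈ T.filter (fun η => p2 η = ν), d η
      have hd2 : ∀ η ∈ T, d2 (p2 η) = d η := by
        intro η hη
        have : T.filter (fun η' => p2 η' = p2 η) = {η} := by
          ext η'
          simp only [mem_filter, mem_singleton]
          exact ⟨fun h => hinj l h.1 hη h.2, by rintro rfl; exact ⟨hη, rfl⟩⟩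
        simp only [d2, this, sum_singleton]
      have h := hbd d2
      rw [sum_image (hinj l)] at h
      refine le_of_eq_of_le ?_ (h.trans_eq ?_)
      · exact sum_congr rfl fun η hη => by rw [hd2 η hη]
      · refine sum_congr rfl fun b _ => ?_
        rw [sum_image (hinj l)]
        congr 3
        exact sum_congr rfl fun η hη => by rw [hd2 η hη]
    · have hTe : T = ∅ := by
        rw [hT, filter_eq_empty_iff]
        exact fun η hη h => hl (mem_image.2 ⟨η, hη, h⟩)
      exact ⟨0, fun _ => le_rfl, fun h => absurd h hl, fun d => by simp [hTe]⟩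
  choose c2 hc20 hc2sum hc2 using hex
  refine ⟨fun η => c1 (p1 η) * c2 (p1 η) (p2 η), fun η => mul_nonneg (hc10 _) (hc20 _ _),
    ?_, fun d => ?_⟩
  · rw [← sum_fiberwise_of_maps_to (t := S.image p1) (g := p1) fun η hη => mem_image_of_mem _ hη,
      Nat.card_prod, Nat.cast_mul, mul_pow]
    calc (Nat.card A : ℝ) ^ 2 * (Nat.card B : ℝ) ^ 2
        ≤ (∑ l ∈ S.image p1, c1 l) * (Nat.card B : ℝ) ^ 2 :=
          mul_le_mul_of_nonneg_right hc1sum (sq_nonneg _)
      _ = ∑ l ∈ S.image p1, c1 l * (Nat.card B : ℝ) ^ 2 := by rw [sum_mul]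
      _ ≤ _ := by
          refine sum_le_sum fun l hl => ?_
          refine (mul_le_mul_of_nonneg_left (hc2sum l hl) (hc10 l)).trans_eq ?_
          rw [mul_sum]
          exact sum_congr rfl fun η hη => by rw [(mem_filter.1 hη).2]
  · calc ∑ η ∈ S, c1 (p1 η) * c2 (p1 η) (p2 η) * ‖d η‖ ^ 2
        = ∑ l ∈ S.image p1, c1 l *
            ∑ η ∈ S.filter (fun η => p1 η = l), c2 l (p2 η) * ‖d η‖ ^ 2 := by
          rw [← sum_fiberwise_of_maps_to (t := S.image p1) (g := p1)
            fun η hη => mem_image_of_mem _ hη]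
          refine sum_congr rfl fun l _ => ?_
          rw [mul_sum]
          exact sum_congr rfl fun η hη => by rw [(mem_filter.1 hη).2, mul_assoc]
      _ ≤ ∑ l ∈ S.image p1, c1 l *
            ∑ b, wB b * ‖∑ η ∈ S.filter (fun η => p1 η = l), d η * (p2 η b : ℂ)‖ ^ 2 :=
          sum_le_sum fun l _ => mul_le_mul_of_nonneg_left (hc2 l d) (hc10 l)
      _ = ∑ b, wB b * ∑ l ∈ S.image p1, c1 l *
            ‖∑ η ∈ S.filter (fun η => p1 η = l), d η * (p2 η b : ℂ)‖ ^ 2 := by
          simp only [mul_sum]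
          rw [sum_comm]
          exact sum_congr rfl fun b _ => sum_congr rfl fun l _ => by ring
      _ ≤ ∑ x : A × B, wA x.1 * wB x.2 * ‖∑ η ∈ S, d η * (η x : ℂ)‖ ^ 2 := by
          have hwB : ∀ b, 0 ≤ wB b → wB b * ∑ l ∈ S.image p1, c1 l *
              ‖∑ η ∈ S.filter (fun η => p1 η = l), d η * (p2 η b : ℂ)‖ ^ 2 ≤
              wB b * ∑ a, wA a * ‖∑ η ∈ S, d η * (η (a, b) : ℂ)‖ ^ 2 := fun b hb => by
            refine mul_le_mul_of_nonneg_left ((hc1 fun l => ∑ η ∈ S.filter (fun η => p1 η = l),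
              d η * (p2 η b : ℂ)).trans_eq ?_) hb
            refine sum_congr rfl fun a _ => ?_
            congr 3
            rw [← sum_fiberwise_of_maps_to (t := S.image p1) (g := p1)
              fun η hη => mem_image_of_mem _ hη]
            refine sum_congr rfl fun l _ => ?_
            rw [sum_mul]
            refine sum_congr rfl fun η hη => ?_
            rw [hmul η a b, Units.val_mul, (mem_filter.1 hη).2]
            ring
          rw [Fintype.sum_prod_type, sum_comm]
          refine sum_le_sum fun b _ => (hwB b (hB0 b)).trans_eq ?_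
          rw [mul_sum]
          exact sum_congr rfl fun a _ => by ring

end Cfsg.Agent.KGV
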