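import Cfsg.Agent.Lib.KGV.AbelianForm

/-!
# The index of the fixed points of a coprime action is a good weight
-/

set_option autoImplicit false

namespace Cfsg.Agent.KGV

open Finset

universe u v

variable {V : Type u} [CommGroup V] {A : Type v} [CommGroup A]

/-- The fixed points of `φ a`. -/
def fixSub (φ : A →* MulAut V) (a : A) : Subgroup V where
  carrier := {x | φ a x = x}
  one_mem' := map_one _
  mul_mem' {x y} (hx : φ a x = x) (hy : φ a y = y) := by
    show φ a (x * y) = x * y
    rw [map_mul, hx, hy]
  inv_mem' {x} (hx : φ a x = x) := by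
    show φ a x⁻¹ = x⁻¹
    rw [map_inv, hx]

theorem mem_fixSub {φ : A →* MulAut V} {a : A} {x : V} : x ∈ fixSub φ a ↔ φ a x = x := Iff.rfl

/-- Restriction of an action to an invariant subgroup. -/
def restrictAct (φ : A →* MulAut V) (W : Subgroup V) (hW : ∀ a, ∀ x ∈ W, φ a x ∈ W) :
    A →* MulAut ↥W where
  toFun a :=
    { toFun := fun x => ⟨φ a x, hW a x x.2⟩
      invFun := fun x => ⟨φ a⁻¹ x, hW a⁻¹ x x.2⟩
      left_inv := fun x => Subtype.ext (show φ a⁻¹ (φ a x) = x by
        rw [map_inv]; exact (φ a).symm_apply_apply _)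
      right_inv := fun x => Subtype.ext (show φ a (φ a⁻¹ x) = x by
        rw [map_inv]; exact (φ a).apply_symm_apply _)
      map_mul' := fun x y => Subtype.ext (map_mul (φ a) (x : V) y) }
  map_one' := by ext x; simp
  map_mul' a b := by ext x; simp [MulAut.mul_apply]

@[simp] theorem restrictAct_apply (φ : A →* MulAut V) (W : Subgroup V)
    (hW : ∀ a, ∀ x ∈ W, φ a x ∈ W) (a : A) (x : W) :
    (restrictAct φ W hW a x : V) = φ a x := rfl

/-- The weight `|V : C_V(a)|`. -/
noncomputable def idxWeight (φ : A →* MulAut V) (a : A) : ℝ :=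
  (Nat.card V : ℝ) / (Nat.card ↥(fixSub φ a) : ℝ)

theorem idxWeight_nonneg (φ : A →* MulAut V) (a : A) : 0 ≤ idxWeight φ a := by
  unfold idxWeight; positivity

variable [Finite V] [Fintype A]

theorem one_le_idxWeight (φ : A →* MulAut V) (a : A) : 1 ≤ idxWeight φ a := by
  rw [idxWeight, le_div_iff₀ (by exact_mod_cast Nat.card_pos), one_mul]
  exact_mod_cast Subgroup.card_le_card_group (fixSub φ a)

/-- Pushing the weight down to the image of the action. -/
theorem idxWeight_kerLift (φ : A →* MulAut V) (a : A) :
    idxWeight φ a = idxWeight (QuotientGroup.kerLift φ) (QuotientGroup.mk' φ.ker a) := rfl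

omit [Fintype A] [Finite V] in
/-- An element fixed by `φ a` which is `φ a y / y` is trivial in the coprime case. -/
theorem eq_one_of_fix_of_displacement (φ : A →* MulAut V) {a : A} {x y : V} {r n : ℕ}
    (hr : a ^ r = 1) (hn : x ^ n = 1) (hcop : r.Coprime n)
    (hx : φ a x = x) (hxy : x = φ a y / y) : x = 1 := by
  have hy : φ a y = x * y := by rw [hxy, div_mul_cancel]
  have hk : ∀ k : ℕ, φ (a ^ k) y = x ^ k * y := by
    intro k
    induction k with
    | zero => simp
    | succ k ih =>
      rw [pow_succ', map_mul, MulAut.mul_apply, ih, map_mul, map_pow, hx, hy, ← mul_assoc,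
        ← pow_succ]
  have h1 := hk r
  rw [hr, map_one, MulAut.one_apply, right_eq_mul] at h1
  exact orderOf_eq_one_iff.1 (Nat.eq_one_of_dvd_coprimes hcop
    (orderOf_dvd_of_pow_eq_one h1) (orderOf_dvd_of_pow_eq_one hn))

/-- The main statement about weights, by induction on the order of the module. -/
theorem good_idxWeight_aux : ∀ (n : ℕ) {V : Type u} [CommGroup V] [Finite V] {A : Type v}
    [CommGroup A] [Fintype A] (φ : A →* MulAut V), Nat.card V ≤ n → Function.Injective φ →
    (Nat.card A).Coprime (Nat.card V) → Good A (idxWeight φ) := by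
  intro n
  induction n with
  | zero =>
    intro V _ _ A _ _ φ h
    exact absurd h (Nat.not_le.2 Nat.card_pos)
  | succ n ih =>
    intro V _ _ A _ _ φ hn hinj hcop
    by_cases hsplit : ∃ a, fixSub φ a ≠ ⊥ ∧ fixSub φ a ≠ ⊤
    · obtain ⟨a₀, hbot, htop⟩ := hsplit
      set V₁ := fixSub φ a₀ with hV₁
      let g : V →* V :=
        { toFun := fun x => φ a₀ x / x
          map_one' := by simp
          map_mul' := fun x y => by rw [map_mul, mul_div_mul_comm] }
      set V₂ := g.range with hV₂
      have hcomm : ∀ a x, φ a (φ a₀ x) = φ a₀ (φ a x) := fun a x => by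
        rw [← MulAut.mul_apply, ← map_mul, mul_comm, map_mul, MulAut.mul_apply]
      have h₁ : ∀ a, ∀ x ∈ V₁, φ a x ∈ V₁ := fun a x hx => by
        show φ a₀ (φ a x) = φ a x
        rw [← hcomm, show φ a₀ x = x from hx]
      have h₂ : ∀ a, ∀ x ∈ V₂, φ a x ∈ V₂ := by
        rintro a _ ⟨y, rfl⟩
        exact ⟨φ a y, by simp [g, map_div, hcomm]⟩
      have hker : g.ker = V₁ := by
        ext x
        simp [g, V₁, mem_fixSub, div_eq_one]
      have hcard : Nat.card V = Nat.card ↥V₁ * Nat.card ↥V₂ := by
        rw [Subgroup.card_eq_card_quotient_mul_card_subgroup g.ker, hker, mul_comm]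
        congr 1
        rw [← hker]
        exact Nat.card_congr (QuotientGroup.quotientKerEquivRange g).toEquiv
      let m : ↥V₁ × ↥V₂ →* V :=
        { toFun := fun z => (z.1 : V) * z.2
          map_one' := by simp
          map_mul' := fun z z' => by simp [mul_mul_mul_comm] }
      have hminj : Function.Injective m := by
        refine (injective_iff_map_eq_one m).2 fun z hz => ?_
        have hz' : (z.1 : V) = ((z.2 : V))⁻¹ := mul_eq_one_iff_eq_inv.1 hz
        have hmem : (z.1 : V) ∈ V₂ := hz' ▸ V₂.inv_mem z.2.2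
        obtain ⟨y, hy⟩ := hmem
        have h1 : (z.1 : V) = 1 :=
          eq_one_of_fix_of_displacement φ (pow_card_eq_one' (x := a₀)) (pow_card_eq_one')
            hcop z.1.2 hy.symm
        have h2 : (z.2 : V) = 1 := by rw [h1] at hz'; simpa using hz'.symm
        exact Prod.ext (Subtype.ext h1) (Subtype.ext h2)
      have hmbij : Function.Bijective m :=
        (Nat.bijective_iff_injective_and_card m).2 ⟨hminj, by rw [Nat.card_prod, hcard]⟩
      set φ₁ := restrictAct φ V₁ h₁
      set φ₂ := restrictAct φ V₂ h₂
      have hm : ∀ a z, m (φ₁ a z.1, φ₂ a z.2) = φ a (m z) := fun a z => by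
        show (φ₁ a z.1 : V) * (φ₂ a z.2 : V) = φ a ((z.1 : V) * z.2)
        rw [restrictAct_apply, restrictAct_apply, map_mul]
      have hfix : ∀ a, Nat.card ↥(fixSub φ a) =
          Nat.card ↥(fixSub φ₁ a) * Nat.card ↥(fixSub φ₂ a) := fun a => by
        rw [← Nat.card_prod]
        refine (Nat.card_congr (Equiv.ofBijective (fun z : ↥(fixSub φ₁ a) × ↥(fixSub φ₂ a) =>
          (⟨m (z.1, z.2), ?_⟩ : fixSub φ a)) ⟨?_, ?_⟩)).symm
        · show φ a (m (z.1, z.2)) = m (z.1, z.2)
          rw [← hm, z.1.2, z.2.2]
        · intro z z' h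
          have h' := hminj (congrArg Subtype.val h)
          simp only [Prod.mk.injEq] at h'
          exact Prod.ext (Subtype.ext h'.1) (Subtype.ext h'.2)
        · intro x
          obtain ⟨z, hz⟩ := hmbij.2 x.1
          have h' : (φ₁ a z.1, φ₂ a z.2) = z := hminj (by rw [hm, hz]; exact x.2)
          exact ⟨(⟨z.1, congrArg Prod.fst h'⟩, ⟨z.2, congrArg Prod.snd h'⟩), Subtype.ext hz⟩
      let π : A →* (A ⧸ φ₁.ker) × (A ⧸ φ₂.ker) :=
        (QuotientGroup.mk' φ₁.ker).prod (QuotientGroup.mk' φ₂.ker)
      have hπ : Function.Injective π := by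
        refine (injective_iff_map_eq_one π).2 fun a ha => hinj ?_
        have ha1 : φ₁ a = 1 :=
          MonoidHom.mem_ker.1 ((QuotientGroup.eq_one_iff a).1 (congrArg Prod.fst ha))
        have ha2 : φ₂ a = 1 :=
          MonoidHom.mem_ker.1 ((QuotientGroup.eq_one_iff a).1 (congrArg Prod.snd ha))
        rw [map_one]
        refine MulEquiv.ext fun x => ?_
        obtain ⟨z, rfl⟩ := hmbij.2 x
        rw [← hm, ha1, ha2]
        rfl
      haveI : Fintype (A ⧸ φ₁.ker) := Fintype.ofFinite _
      haveI : Fintype (A ⧸ φ₂.ker) := Fintype.ofFinite _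
      have hlt : ∀ (W : Subgroup V), W ≠ ⊤ → Nat.card W ≤ n := fun W hW => by
        have h := Subgroup.card_le_card_group W
        have h' : Nat.card W ≠ Nat.card V := fun h => hW (Subgroup.eq_top_of_card_eq W h)
        omega
      have hV₂top : V₂ ≠ ⊤ := by
        intro h
        refine hbot (Subgroup.card_eq_one.1 ?_)
        rw [h, Subgroup.card_top] at hcard
        exact Nat.eq_of_mul_eq_mul_right Nat.card_pos ((hcard.symm).trans (one_mul _).symm)
      have hg₁ := ih (QuotientGroup.kerLift φ₁) (hlt V₁ htop) (QuotientGroup.kerLift_injective φ₁)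
        ((hcop.coprime_dvd_left (Subgroup.card_quotient_dvd_card _)).coprime_dvd_right
          (Subgroup.card_subgroup_dvd_card V₁))
      have hg₂ := ih (QuotientGroup.kerLift φ₂) (hlt V₂ hV₂top) (QuotientGroup.kerLift_injective φ₂)
        ((hcop.coprime_dvd_left (Subgroup.card_quotient_dvd_card _)).coprime_dvd_right
          (Subgroup.card_subgroup_dvd_card V₂))
      refine good_comp π hπ (good_prod hg₁ hg₂ fun b => idxWeight_nonneg _ b) fun a => le_of_eq ?_
      show idxWeight φ₁ a * idxWeight φ₂ a = idxWeight φ a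
      simp only [idxWeight, hfix, hcard, div_mul_div_comm]
      push_cast
      ring
    · push Not at hsplit
      refine good_base _ (one_le_idxWeight φ 1) fun a ha => ?_
      have hbot : ∀ b : A, b ≠ 1 → fixSub φ b = ⊥ := fun b hb => by
        by_contra h
        have h' := hsplit b h
        refine hb (hinj (MulEquiv.ext fun x => ?_))
        have : x ∈ fixSub φ b := h' ▸ Subgroup.mem_top x
        simpa [mem_fixSub] using this
      rw [idxWeight, hbot a ha, Subgroup.card_bot, Nat.cast_one, div_one]
      obtain ⟨y, hy⟩ : ∃ y : V, y ≠ 1 := by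
        by_contra hall
        push Not at hall
        exact ha (hinj (MulEquiv.ext fun x => by rw [hall x, map_one, map_one]))
      have hle : Nat.card (Option A) ≤ Nat.card V := by
        refine Nat.card_le_card_of_injective (fun o => o.elim (1 : V) fun b => φ b y) ?_
        rintro (_ | b) (_ | c) h
        · rfl
        · exact absurd ((φ c).injective (h.symm.trans (map_one _).symm)) hy
        · exact absurd ((φ b).injective (h.trans (map_one _).symm)) hy
        · by_contra hne
          have hne' : c⁻¹ * b ≠ 1 := fun hh => hne (by rw [inv_mul_eq_one.1 hh])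
          have hmem : y ∈ fixSub φ (c⁻¹ * b) := by
            show φ (c⁻¹ * b) y = y
            rw [map_mul, MulAut.mul_apply, show φ b y = φ c y from h, ← MulAut.mul_apply,
              ← map_mul, inv_mul_cancel, map_one, MulAut.one_apply]
          rw [hbot _ hne', Subgroup.mem_bot] at hmem
          exact hy hmem
      rw [Finite.card_option] at hle
      exact_mod_cast hle

/-- For a faithful coprime action, `a ↦ |V : C_V(a)|` is a good weight. -/
theorem good_idxWeight {V : Type u} [CommGroup V] [Finite V] {A : Type v} [CommGroup A] [Fintype A]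
    (φ : A →* MulAut V) (hinj : Function.Injective φ)
    (hcop : (Nat.card A).Coprime (Nat.card V)) : Good A (idxWeight φ) :=
  good_idxWeight_aux _ φ le_rfl hinj hcop

end Cfsg.Agent.KGV
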