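import Cfsg.Agent.Lib.KGV.VirtualClass
import Cfsg.Agent.Lib.Blocks.LocalRing

/-!
# Square roots of the index of the fixed points

`SqrtIndex N p φ`: there is a combination `E` of irreducible characters with algebraic integer
coefficients with `|E h| ^ 2 = |U : C_U(h)|`, values in a cyclotomic field, and divisible by every
prime over `p` off the kernel of the action.

* `sqrtIndex_prod`: direct products;
* `sqrtIndex_quadratic`: an invariant quadratic map with nondegenerate polar (a Gauss sum);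
* `sqrtIndex_symm_two`: `p = 2` and an invariant symmetric nondegenerate form (a Fourier transform).
-/

set_option autoImplicit false
set_option linter.style.haveILetI false
set_option linter.unusedSectionVars false

namespace Cfsg.Agent.KGV

open Cfsg Cfsg.Agent.Blocks
open scoped ComplexConjugate Classical

universe u

variable {H : Type u} [Group H] [Fintype H] {U : Type u} [CommGroup U] [Fintype U]

/-- The fixed points of `φ h`. -/
def fixPts (φ : H →* MulAut U) (h : H) : Subgroup U where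
  carrier := {x | φ h x = x}
  one_mem' := map_one _
  mul_mem' {x y} (hx : φ h x = x) (hy : φ h y = y) := by
    show φ h (x * y) = x * y
    rw [map_mul, hx, hy]
  inv_mem' {x} (hx : φ h x = x) := by
    show φ h x⁻¹ = x⁻¹
    rw [map_inv, hx]

theorem mem_fixPts {φ : H →* MulAut U} {h : H} {x : U} : x ∈ fixPts φ h ↔ φ h x = x := Iff.rfl

theorem fixPts_one (φ : H →* MulAut U) : fixPts φ 1 = ⊤ := by
  ext x; simp [mem_fixPts]

/-- The action on an invariant subgroup. -/
def subAct (φ : H →* MulAut U) (W : Subgroup U) (hW : ∀ h, ∀ x ∈ W, φ h x ∈ W) :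
    H →* MulAut ↥W where
  toFun h :=
    { toFun := fun x => ⟨φ h x, hW h x x.2⟩
      invFun := fun x => ⟨φ h⁻¹ x, hW h⁻¹ x x.2⟩
      left_inv := fun x => Subtype.ext (show φ h⁻¹ (φ h x) = x by
        rw [map_inv]; exact (φ h).symm_apply_apply _)
      right_inv := fun x => Subtype.ext (show φ h (φ h⁻¹ x) = x by
        rw [map_inv]; exact (φ h).apply_symm_apply _)
      map_mul' := fun x y => Subtype.ext (map_mul (φ h) (x : U) y) }
  map_one' := by ext x; simp
  map_mul' a b := by ext x; simp [MulAut.mul_apply]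

@[simp] theorem subAct_apply (φ : H →* MulAut U) (W : Subgroup U)
    (hW : ∀ h, ∀ x ∈ W, φ h x ∈ W) (h : H) (x : W) : (subAct φ W hW h x : U) = φ h x := rfl

/-- A class function with algebraic integer coordinates whose squared absolute value is the index
of the fixed points. -/
def SqrtIndex (N p : ℕ) (φ : H →* MulAut U) : Prop :=
  ∃ E : H → ℂ, IntVC E ∧ E 1 = 1 ∧ ∀ h, InCyc N (E h) ∧
    ‖E h‖ ^ 2 * (Nat.card (fixPts φ h) : ℝ) = (Nat.card U : ℝ) ∧
    (fixPts φ h ≠ ⊤ → ∀ M : Ideal AlgInt, M.IsMaximal → (p : AlgInt) ∈ M → MemLocalIdeal M (E h))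

theorem sqrtIndex_trivial {N p : ℕ} {φ : H →* MulAut U} (h : ∀ x, fixPts φ x = ⊤) :
    SqrtIndex N p φ := by
  refine ⟨1, intVC_one, rfl, fun x => ⟨?_, ?_, fun hx => absurd (h x) hx⟩⟩
  · simpa using inCyc_natCast N 1
  · simp [h x]

theorem sqrtIndex_prod {N p : ℕ} {φ : H →* MulAut U} {K D : Subgroup U}
    (hK : ∀ h, ∀ x ∈ K, φ h x ∈ K) (hD : ∀ h, ∀ x ∈ D, φ h x ∈ D) (hdis : K ⊓ D = ⊥)
    (hgen : ∀ u : U, ∃ k ∈ K, ∃ d ∈ D, k * d = u) (h₁ : SqrtIndex N p (subAct φ K hK))
    (h₂ : SqrtIndex N p (subAct φ D hD)) : SqrtIndex N p φ := by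
  obtain ⟨E₁, hE₁, hE₁', hP₁⟩ := h₁
  obtain ⟨E₂, hE₂, hE₂', hP₂⟩ := h₂
  let m : K × D →* U := K.subtype.coprod D.subtype
  have hm : Function.Bijective m := by
    constructor
    · rw [injective_iff_map_eq_one]
      rintro ⟨k, d⟩ (hkd : (k : U) * d = 1)
      have hk : (k : U) ∈ K ⊓ D :=
        Subgroup.mem_inf.2 ⟨k.2, by rw [mul_eq_one_iff_eq_inv.1 hkd]; exact inv_mem d.2⟩
      rw [hdis, Subgroup.mem_bot] at hk
      rw [hk, one_mul] at hkd
      exact Prod.ext (Subtype.ext hk) (Subtype.ext hkd)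
    · intro u
      obtain ⟨k, hk, d, hd, rfl⟩ := hgen u
      exact ⟨(⟨k, hk⟩, ⟨d, hd⟩), rfl⟩
  have hcard : Nat.card U = Nat.card K * Nat.card D := by
    rw [← Nat.card_prod]; exact (Nat.card_congr (Equiv.ofBijective m hm)).symm
  have heq : ∀ h z, m (subAct φ K hK h z.1, subAct φ D hD h z.2) = φ h (m z) := fun h z => by
    show φ h (z.1 : U) * φ h (z.2 : U) = φ h ((z.1 : U) * z.2)
    rw [map_mul]
  have hfix : ∀ h, Nat.card (fixPts φ h) =
      Nat.card (fixPts (subAct φ K hK) h) * Nat.card (fixPts (subAct φ D hD) h) := fun h => by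
    rw [← Nat.card_prod]
    refine (Nat.card_congr (Equiv.ofBijective (fun z :
        fixPts (subAct φ K hK) h × fixPts (subAct φ D hD) h =>
      (⟨m (z.1, z.2), ?_⟩ : fixPts φ h)) ⟨?_, ?_⟩)).symm
    · show φ h (m (z.1, z.2)) = _
      rw [← heq]
      exact congrArg m (Prod.ext z.1.2 z.2.2)
    · intro z z' he
      have h' := hm.1 (congrArg Subtype.val he)
      simp only [Prod.mk.injEq] at h'
      exact Prod.ext (Subtype.ext h'.1) (Subtype.ext h'.2)
    · intro x
      obtain ⟨z, hz⟩ := hm.2 x.1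
      have h' : (subAct φ K hK h z.1, subAct φ D hD h z.2) = z := hm.1 (by rw [heq, hz]; exact x.2)
      exact ⟨(⟨z.1, congrArg Prod.fst h'⟩, ⟨z.2, congrArg Prod.snd h'⟩), Subtype.ext hz⟩
  refine ⟨E₁ * E₂, IntVC.mul hE₁ hE₂, by simp [hE₁', hE₂'], fun h => ⟨?_, ?_, fun hne M hM hpM => ?_⟩⟩
  · exact (hP₁ h).1.mul (hP₂ h).1
  · rw [hcard, hfix, Pi.mul_apply, norm_mul, mul_pow]
    push_cast
    rw [← (hP₁ h).2.1, ← (hP₂ h).2.1]
    ring
  · haveI := hM
    rcases em (fixPts (subAct φ K hK) h = ⊤) with h1 | h1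
    · refine MemLocalIdeal.mul_left (memLocalRing_of_isIntegral (hE₁.isIntegral_apply h))
        ((hP₂ h).2.2 (fun h2 => hne ?_) M hM hpM)
      rw [eq_top_iff]
      intro u _
      obtain ⟨z, rfl⟩ := hm.2 u
      show φ h (m z) = m z
      rw [← heq]
      have e1 : z.1 ∈ fixPts (subAct φ K hK) h := h1 ▸ Subgroup.mem_top _
      have e2 : z.2 ∈ fixPts (subAct φ D hD) h := h2 ▸ Subgroup.mem_top _
      exact congrArg m (Prod.ext e1 e2)
    · exact MemLocalIdeal.mul_right ((hP₁ h).2.2 h1 M hM hpM)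
        (memLocalRing_of_isIntegral (hE₂.isIntegral_apply h))

/-- An invariant bicharacter with values `p`-th roots of unity. -/
structure IsForm (p : ℕ) (φ : H →* MulAut U) (τ : U → U → ℂ) : Prop where
  mul_left : ∀ a b c, τ (a * b) c = τ a c * τ b c
  mul_right : ∀ a b c, τ a (b * c) = τ a b * τ a c
  pow_eq : ∀ a b, τ a b ^ p = 1
  invariant : ∀ h a b, τ (φ h a) (φ h b) = τ a b

/-- Left nondegeneracy. -/
def Nondeg (τ : U → U → ℂ) : Prop := ∀ a, (∀ b, τ a b = 1) → a = 1

variable {p : ℕ} [hp : Fact p.Prime] {φ : H →* MulAut U} {τ : U → U → ℂ}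

theorem IsForm.ne_zero (hτ : IsForm p φ τ) (a b : U) : τ a b ≠ 0 := fun h => by
  simpa [h, hp.out.ne_zero] using hτ.pow_eq a b

theorem IsForm.one_left (hτ : IsForm p φ τ) (b : U) : τ 1 b = 1 := by
  have h := hτ.mul_left 1 1 b
  rw [one_mul] at h
  exact mul_left_cancel₀ (hτ.ne_zero 1 b) (by rw [mul_one]; exact h.symm)

theorem IsForm.one_right (hτ : IsForm p φ τ) (a : U) : τ a 1 = 1 := by
  have h := hτ.mul_right a 1 1
  rw [one_mul] at h
  exact mul_left_cancel₀ (hτ.ne_zero a 1) (by rw [mul_one]; exact h.symm)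

theorem IsForm.inv_left (hτ : IsForm p φ τ) (a b : U) : τ a⁻¹ b = (τ a b)⁻¹ := by
  refine eq_inv_of_mul_eq_one_left ?_
  rw [← hτ.mul_left, inv_mul_cancel, hτ.one_left]

theorem IsForm.inv_right (hτ : IsForm p φ τ) (a b : U) : τ a b⁻¹ = (τ a b)⁻¹ := by
  refine eq_inv_of_mul_eq_one_left ?_
  rw [← hτ.mul_right, inv_mul_cancel, hτ.one_right]

theorem IsForm.pow_right (hτ : IsForm p φ τ) (a b : U) (n : ℕ) : τ a (b ^ n) = τ a b ^ n := by
  induction n with
  | zero => simp [hτ.one_right]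
  | succ n ih => rw [pow_succ, pow_succ, hτ.mul_right, ih]

theorem IsForm.prod_right (hτ : IsForm p φ τ) (a : U) {ι : Type*} (s : Finset ι) (f : ι → U) :
    τ a (∏ i ∈ s, f i) = ∏ i ∈ s, τ a (f i) := by
  induction s using Finset.induction with
  | empty => simp [hτ.one_right]
  | insert i s hi ih => rw [Finset.prod_insert hi, Finset.prod_insert hi, hτ.mul_right, ih]

theorem IsForm.restrict (hτ : IsForm p φ τ) (W : Subgroup U) (hW : ∀ h, ∀ x ∈ W, φ h x ∈ W) :
    IsForm p (subAct φ W hW) (fun a b : W => τ a b) :=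
  ⟨fun a b c => hτ.mul_left a b c, fun a b c => hτ.mul_right a b c, fun a b => hτ.pow_eq a b,
    fun h a b => hτ.invariant h a b⟩

theorem eq_one_of_pow_coprime {x : ℂ} {a b : ℕ} (ha : x ^ a = 1) (hb : x ^ b = 1)
    (h : a.Coprime b) : x = 1 := by
  have := pow_gcd_eq_one.2 ⟨ha, hb⟩
  rwa [h.gcd_eq_one, pow_one] at this

/-- Summing a bicharacter over a subgroup. -/
theorem IsForm.sum_eq (hτ : IsForm p φ τ) (A : Subgroup U) (z : U) :
    ∑ y : A, τ y z = if ∀ y ∈ A, τ y z = 1 then (Nat.card A : ℂ) else 0 := by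
  split_ifs with h
  · rw [Finset.sum_congr rfl (g := fun _ => (1 : ℂ)) fun (y : A) _ => h y y.2, Finset.sum_const, Finset.card_univ,
      ← Nat.card_eq_fintype_card, nsmul_one]
  · push Not at h
    obtain ⟨w, hw, hne⟩ := h
    have e : τ w z * ∑ y : A, τ y z = ∑ y : A, τ y z := by
      rw [Finset.mul_sum]
      refine Fintype.sum_equiv (Equiv.mulLeft (⟨w, hw⟩ : A)) _ _ fun y => ?_
      simp [hτ.mul_left]
    by_contra h0
    exact hne ((mul_eq_right₀ h0).1 e)

/-- A nondegenerate invariant form stays nondegenerate on the fixed points of a subgroup. -/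
theorem eq_one_of_fixed (hτ : IsForm p φ τ) (hnd : Nondeg τ) (hcop : ¬ p ∣ Nat.card H)
    (A : Subgroup H) {c : U} (hc : ∀ k ∈ A, φ k c = c)
    (h : ∀ u, (∀ k ∈ A, φ k u = u) → τ c u = 1) : c = 1 := by
  refine hnd c fun w => ?_
  have hA : ¬ p ∣ Fintype.card A := fun hd => hcop
    (by rw [← Nat.card_eq_fintype_card] at hd; exact hd.trans (Subgroup.card_subgroup_dvd_card A))
  have h1 : τ c (∏ k : A, φ k w) = 1 := h _ fun k hk => by
    rw [map_prod]
    exact Fintype.prod_equiv (Equiv.mulLeft ⟨k, hk⟩) _ _ fun x => by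
      simp [map_mul, MulAut.mul_apply]
  have h2 : τ c (∏ k : A, φ k w) = τ c w ^ Fintype.card A := by
    rw [hτ.prod_right, ← Finset.card_univ, ← Finset.prod_const]
    refine Finset.prod_congr rfl fun k _ => ?_
    conv_lhs => rw [← hc k k.2]
    exact hτ.invariant _ c w
  exact eq_one_of_pow_coprime (h2 ▸ h1) (hτ.pow_eq c w)
    ((hp.out.coprime_iff_not_dvd).2 hA).symm

theorem eq_one_of_fixPts (hτ : IsForm p φ τ) (hnd : Nondeg τ) (hcop : ¬ p ∣ Nat.card H) {h : H}
    {c : U} (hc : c ∈ fixPts φ h) (ho : ∀ u ∈ fixPts φ h, τ c u = 1) : c = 1 := by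
  refine eq_one_of_fixed hτ hnd hcop (Subgroup.zpowers h) ?_ fun u hu =>
    ho u (hu h (Subgroup.mem_zpowers h))
  have hle : Subgroup.zpowers h ≤
      (MulAction.stabilizer (MulAut U) c).comap φ := by
    rw [Subgroup.zpowers_le]
    exact hc
  exact fun k hk => hle hk

/-- The left orthogonal. -/
def orth (hτ : IsForm p φ τ) (A : Subgroup U) : Subgroup U where
  carrier := {u | ∀ a ∈ A, τ u a = 1}
  one_mem' := fun a _ => hτ.one_left a
  mul_mem' := fun {x y} hx hy a ha => by rw [hτ.mul_left, hx a ha, hy a ha, one_mul]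
  inv_mem' := fun {x} hx a ha => by rw [hτ.inv_left, hx a ha, inv_one]

theorem orth_invariant (hτ : IsForm p φ τ) {A : Subgroup U} (hA : ∀ h, ∀ x ∈ A, φ h x ∈ A) :
    ∀ h, ∀ x ∈ orth hτ A, φ h x ∈ orth hτ A := fun h x hx a ha => by
  have := hx _ (hA h⁻¹ a ha)
  rw [← hτ.invariant h] at this
  simpa [map_inv] using this

theorem inf_orth_eq_bot (hτ : IsForm p φ τ) {A : Subgroup U}
    (hA : ∀ a ∈ A, (∀ b ∈ A, τ a b = 1) → a = 1) : A ⊓ orth hτ A = ⊥ :=
  (Subgroup.eq_bot_iff_forall _).2 fun x hx => hA x hx.1 hx.2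

theorem exists_mul_orth (hτ : IsForm p φ τ) {A : Subgroup U}
    (hA : ∀ a ∈ A, (∀ b ∈ A, τ a b = 1) → a = 1) (u : U) :
    ∃ a ∈ A, ∃ d ∈ orth hτ A, a * d = u := by
  let r : U →* (A →* ℂˣ) :=
    { toFun := fun x =>
        { toFun := fun a => Units.mk0 (τ x a) (hτ.ne_zero x a)
          map_one' := Units.ext (hτ.one_right x)
          map_mul' := fun a b => Units.ext (hτ.mul_right x a b) }
      map_one' := MonoidHom.ext fun a => Units.ext (hτ.one_left a)
      map_mul' := fun x y => MonoidHom.ext fun a => Units.ext (hτ.mul_left x y a) }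
  haveI : Finite (A →* ℂˣ) := Nat.finite_of_card_ne_zero (by
    rw [CommGroup.card_monoidHom_of_hasEnoughRootsOfUnity]; exact Nat.card_pos.ne')
  have hker : r.ker = orth hτ A := by
    ext x
    rw [MonoidHom.mem_ker]
    exact ⟨fun h a ha => congrArg Units.val (DFunLike.congr_fun h (⟨a, ha⟩ : A) :),
      fun h => MonoidHom.ext fun a => Units.ext (h a a.2)⟩
  have h1 : Nat.card U ≤ Nat.card A * Nat.card (orth hτ A) := by
    rw [← r.ker.card_mul_index, hker, mul_comm]
    refine Nat.mul_le_mul_right _ ?_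
    rw [← hker, Subgroup.index_ker]
    exact (Subgroup.card_le_card_group _).trans
      (CommGroup.card_monoidHom_of_hasEnoughRootsOfUnity A ℂ).le
  let m : A × orth hτ A →* U := A.subtype.coprod (orth hτ A).subtype
  have hminj : Function.Injective m := by
    rw [injective_iff_map_eq_one]
    rintro ⟨k, d⟩ (hkd : (k : U) * d = 1)
    have hk : (k : U) ∈ A ⊓ orth hτ A :=
      Subgroup.mem_inf.2 ⟨k.2, by rw [mul_eq_one_iff_eq_inv.1 hkd]; exact inv_mem d.2⟩
    rw [inf_orth_eq_bot hτ hA, Subgroup.mem_bot] at hk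
    rw [hk, one_mul] at hkd
    exact Prod.ext (Subtype.ext hk) (Subtype.ext hkd)
  have hmb := (Nat.bijective_iff_injective_and_card m).2 ⟨hminj, le_antisymm
    (Nat.card_le_card_of_injective m hminj) (by rw [Nat.card_prod]; exact h1)⟩
  obtain ⟨⟨k, d⟩, hkd⟩ := hmb.2 u
  exact ⟨k, k.2, d, d.2, hkd⟩

theorem trace_eq_sum_single (T : Module.End ℂ (U → ℂ)) :
    LinearMap.trace ℂ (U → ℂ) T = ∑ x, T (Pi.single x 1) x := by
  rw [LinearMap.trace_eq_matrix_trace ℂ (Pi.basisFun ℂ U), Matrix.trace]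
  exact Finset.sum_congr rfl fun x _ => by
    rw [Matrix.diag_apply, LinearMap.toMatrix_apply, Pi.basisFun_repr, Pi.basisFun_apply]

/-- The permutation representation. -/
noncomputable def permRep (φ : H →* MulAut U) : Representation ℂ H (U → ℂ) where
  toFun h := LinearMap.funLeft ℂ ℂ fun x => φ h⁻¹ x
  map_one' := by ext f x; simp [LinearMap.funLeft]
  map_mul' a b := by ext f x; simp [LinearMap.funLeft, MulAut.mul_apply]

theorem permRep_apply (φ : H →* MulAut U) (h : H) (f : U → ℂ) (x : U) :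
    permRep φ h f x = f (φ h⁻¹ x) := rfl

theorem permRep_single (φ : H →* MulAut U) (h : H) (x : U) :
    permRep φ h (Pi.single x 1) = Pi.single (φ h x) 1 := by
  funext y
  rw [permRep_apply]
  by_cases hy : y = φ h x
  · subst hy
    rw [map_inv, Pi.single_eq_same, show (φ h)⁻¹ (φ h x) = x from (φ h).symm_apply_apply x,
      Pi.single_eq_same]
  · rw [Pi.single_eq_of_ne hy, Pi.single_eq_of_ne]
    intro h'
    apply hy
    rw [← h', map_inv]
    exact ((φ h).apply_symm_apply y).symm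

theorem isIntegral_natCast' (n : ℕ) : IsIntegral ℤ (n : ℂ) := by
  simpa using (isIntegral_algebraMap : IsIntegral ℤ (algebraMap ℤ ℂ (n : ℤ)))

theorem isIntegral_conj {z : ℂ} (h : IsIntegral ℤ z) : IsIntegral ℤ (conj z) :=
  h.map (starRingEnd ℂ).toIntAlgHom

theorem memLocalIdeal_sub_one {M : Ideal AlgInt} [M.IsMaximal] (hpM : (p : AlgInt) ∈ M) {z : ℂ}
    (hz : z ^ p = 1) : MemLocalIdeal M (z - 1) := by
  haveI := charP_residue hpM
  haveI : ExpChar (AlgInt ⧸ M) p := ExpChar.prime hp.out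
  have hloc : MemLocalRing M z :=
    memLocalRing_of_isIntegral (IsIntegral.of_pow hp.out.pos (hz ▸ isIntegral_one))
  refine (red_eq_iff hloc memLocalRing_one).1 ?_
  rw [red_one]
  refine frobenius_inj (AlgInt ⧸ M) p ?_
  simp [frobenius_def, ← red_pow hloc, hz]

variable {N : ℕ}

/-- Gauss sums of an invariant quadratic map. -/
theorem sqrtIndex_quadratic (hexp : ∀ x : U, x ^ p = 1) (hcop : ¬ p ∣ Nat.card H) (hpN : p ∣ N)
    {f : U → ℂ} {P : U → U → ℂ} (hP : IsForm p φ P) (hsymm : ∀ a b, P a b = P b a)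
    (hnd : Nondeg P) (hf : ∀ a b, f (a * b) = f a * f b * P a b) (hfp : ∀ a, f a ^ p = 1)
    (hfinv : ∀ h a, f (φ h a) = f a) : SqrtIndex N p φ := by
  have hf0 : ∀ a, f a ≠ 0 := fun a h => by simpa [h, hp.out.ne_zero] using hfp a
  have hf1 : f 1 = 1 := by
    have h := hf 1 1
    rw [one_mul, hP.one_left, mul_one] at h
    exact mul_left_cancel₀ (hf0 1) (by rw [mul_one]; exact h.symm)
  have hcj : ∀ a, conj (f a) = (f a)⁻¹ := fun a => conj_eq_inv hp.out.pos (hfp a)
  have hfint : ∀ a, IsIntegral ℤ (f a) := fun a =>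
    IsIntegral.of_pow hp.out.pos (hfp a ▸ isIntegral_one)
  let G : Subgroup U → ℂ := fun A => ∑ x : A, f x
  have hGint : ∀ A, IsIntegral ℤ (G A) := fun A => IsIntegral.sum _ fun x _ => hfint x
  have hG : ∀ A : Subgroup U, (∀ a ∈ A, (∀ b ∈ A, P a b = 1) → a = 1) →
      G A * conj (G A) = (Nat.card A : ℂ) := by
    intro A hA
    show (∑ x : A, f x) * conj (∑ x : A, f x) = _
    rw [map_sum, Finset.mul_sum]
    have e : ∀ y : A, (∑ x : A, f x) * conj (f (y : U)) = ∑ z : A, f z * P y z := fun y => by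
      rw [Finset.sum_mul]
      refine Fintype.sum_equiv (Equiv.mulLeft y⁻¹) _ _ fun x => ?_
      have hx : (x : U) = (y : U) * ((y⁻¹ * x : A) : U) := by simp
      conv_lhs => rw [hx, hf, hcj]
      simp only [Equiv.coe_mulLeft]
      field_simp [hf0 (y : U)]
    rw [Finset.sum_congr rfl fun y _ => e y, Finset.sum_comm]
    simp only [← Finset.mul_sum, hP.sum_eq A]
    rw [Fintype.sum_eq_single (1 : A)]
    · rw [Subgroup.coe_one, hf1, one_mul, if_pos fun y _ => hP.one_right y]
    · intro z hz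
      rw [if_neg, mul_zero]
      intro h
      exact hz (Subtype.ext (hA z z.2 fun b hb => by rw [hsymm]; exact h b hb))
  have hnd' : ∀ a ∈ (⊤ : Subgroup U), (∀ b ∈ (⊤ : Subgroup U), P a b = 1) → a = 1 :=
    fun a _ h => hnd a fun b => h b (Subgroup.mem_top b)
  let C : H → Subgroup U := fixPts φ
  have hC : ∀ h, ∀ a ∈ C h, (∀ b ∈ C h, P a b = 1) → a = 1 := fun h a ha =>
    eq_one_of_fixPts hP hnd hcop ha
  let D : H → Subgroup U := fun h => orth hP (C h)
  have hsplit : ∀ h, G ⊤ = G (C h) * G (D h) := by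
    intro h
    show ∑ x : (⊤ : Subgroup U), f x = (∑ x : C h, f x) * ∑ x : D h, f x
    rw [Finset.sum_mul_sum, ← Finset.sum_product']
    refine (Finset.sum_bij (fun q _ => (⟨(q.1 : U) * q.2, Subgroup.mem_top _⟩ : (⊤ : Subgroup U)))
      (fun q _ => Finset.mem_univ _) ?_ ?_ ?_).symm
    · intro q _ q' _ he
      have he' : (q.1 : U) * q.2 = q'.1 * q'.2 := congrArg Subtype.val he
      have hq : (q.1 : U)⁻¹ * q'.1 = q.2 * (q'.2 : U)⁻¹ := by
        rw [eq_mul_inv_iff_mul_eq, mul_assoc, ← he', inv_mul_cancel_left]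
      have h1 : (q.1 : U)⁻¹ * q'.1 ∈ C h ⊓ D h :=
        Subgroup.mem_inf.2 ⟨mul_mem (inv_mem q.1.2) q'.1.2, hq ▸ mul_mem q.2.2 (inv_mem q'.2.2)⟩
      rw [inf_orth_eq_bot hP (hC h), Subgroup.mem_bot] at h1
      rw [h1, eq_comm, mul_inv_eq_one] at hq
      exact Prod.ext (Subtype.ext (inv_mul_eq_one.1 h1)) (Subtype.ext hq)
    · intro x _
      obtain ⟨a, ha, d, hd, he⟩ := exists_mul_orth hP (hC h) x.1
      exact ⟨(⟨a, ha⟩, ⟨d, hd⟩), by simp, Subtype.ext he⟩
    · intro q _
      show f (q.1 : U) * f (q.2 : U) = f ((q.1 : U) * q.2)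
      rw [hf, hsymm, q.2.2 _ q.1.2, mul_one]
  -- the Gauss sum on the fixed points is a trace
  let T : Module.End ℂ (U → ℂ) :=
    { toFun := fun g x => f x * g x
      map_add' := fun g g' => by funext x; simp [mul_add]
      map_smul' := fun c g => by funext x; simp [mul_left_comm] }
  have hT : T ^ p = 1 := by
    have : ∀ n : ℕ, ∀ g x, (T ^ n) g x = f x ^ n * g x := by
      intro n
      induction n with
      | zero => intro g x; simp
      | succ n ih =>
        intro g x
        rw [pow_succ', Module.End.mul_apply]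
        show f x * (T ^ n) g x = _
        rw [ih, pow_succ']; ring
    refine LinearMap.ext fun g => funext fun x => ?_
    rw [this, hfp, one_mul, Module.End.one_apply]
  have hTc : ∀ h, Commute T (permRep φ h) := fun h => LinearMap.ext fun g => funext fun x => by
    show f x * g (φ h⁻¹ x) = f (φ h⁻¹ x) * g (φ h⁻¹ x)
    rw [hfinv]
  have htr : ∀ h, LinearMap.trace ℂ _ (T * permRep φ h) = G (C h) := by
    intro h
    rw [trace_eq_sum_single]
    have e : ∀ x, (T * permRep φ h) (Pi.single x 1) x = if x ∈ C h then f x else 0 := fun x => by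
      rw [Module.End.mul_apply, permRep_single]
      show f x * (Pi.single (φ h x) (1 : ℂ) : U → ℂ) x = _
      by_cases hx : x ∈ C h
      · rw [if_pos hx, show φ h x = x from hx, Pi.single_eq_same, mul_one]
      · rw [if_neg hx, Pi.single_eq_of_ne (fun h' => hx h'.symm), mul_zero]
    rw [Finset.sum_congr rfl fun x _ => e x, ← Finset.sum_filter]
    exact Finset.sum_subtype _ (by simp) _
  obtain ⟨hS, -⟩ := intVC_trace (N := N) (permRep φ) T hp.out.pos hT hTc
  simp only [htr] at hS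
  obtain ⟨k, hk⟩ : ∃ k, Nat.card U = p ^ k :=
    (IsPGroup.iff_card (p := p)).1 fun x => ⟨1, by simpa using hexp x⟩
  have hGtop : G ⊤ * conj (G ⊤) = (p : ℂ) ^ k := by
    rw [hG ⊤ hnd', Subgroup.card_top, hk, Nat.cast_pow]
  have hGtop0 : G ⊤ ≠ 0 := fun h0 => by
    rw [h0, zero_mul] at hGtop
    exact pow_ne_zero k (Nat.cast_ne_zero.2 hp.out.ne_zero) hGtop.symm
  refine ⟨fun h => G (D h), ?_, ?_, fun h => ⟨?_, ?_, fun hne M hM hpM => ?_⟩⟩
  · refine intVC_of_mul_eq hp.out hcop (fun h => hGint _)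
      (IntVC.smul (isIntegral_conj (hGint ⊤)) hS) (k := k) fun h => ?_
    simp only [Pi.smul_apply, smul_eq_mul]
    rw [← hGtop, hsplit h]
    ring
  · have h1 := hsplit 1
    have h2 : G (C 1) = G ⊤ := by
      show G (fixPts φ 1) = _
      rw [fixPts_one]
    rw [h2] at h1
    exact (mul_eq_left₀ hGtop0).1 h1.symm
  · exact InCyc.sum _ fun x _ => inCyc_of_pow_dvd hpN (hfp x)
  · apply Complex.ofReal_injective
    push_cast
    have h1 : (G (C h) * conj (G (C h))) * (G (D h) * conj (G (D h))) = (Nat.card U : ℂ) := by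
      rw [mul_mul_mul_comm, ← map_mul, ← hsplit, hG ⊤ hnd', Subgroup.card_top]
    rw [hG _ (hC h), Complex.mul_conj, Complex.normSq_eq_norm_sq, mul_comm] at h1
    exact_mod_cast h1
  · haveI := hM
    haveI := charP_residue hpM
    have hD : p ∣ Nat.card (D h) := by
      have hpg : IsPGroup p (D h) := fun x => ⟨1, Subtype.ext (by simpa using hexp x)⟩
      obtain ⟨j, hj⟩ := IsPGroup.iff_card.1 hpg
      rcases Nat.eq_zero_or_pos j with rfl | hj'
      · refine absurd (eq_top_iff.2 fun x _ => ?_) hne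
        obtain ⟨a, ha, d, hd, rfl⟩ := exists_mul_orth hP (hC h) x
        rw [pow_zero, Subgroup.card_eq_one] at hj
        have hd' : d ∈ D h := hd
        rw [hj, Subgroup.mem_bot] at hd'
        rwa [hd', mul_one]
      · exact hj ▸ dvd_pow_self p hj'.ne'
    have hloc : ∀ a, MemLocalRing M (f a) := fun a => memLocalRing_of_isIntegral (hfint a)
    refine (red_eq_zero_iff (memLocalRing_of_isIntegral (hGint _))).1 ?_
    show red M (∑ x : D h, f x) = 0
    rw [red_sum Finset.univ (f := fun x : D h => f x) fun x _ => hloc x, Finset.sum_congr rfl (g := fun _ : D h => (1 : AlgInt ⧸ M))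
      fun (x : D h) _ => ((red_eq_iff (hloc x) memLocalRing_one).2
        (memLocalIdeal_sub_one hpM (hfp x))).trans red_one,
      Finset.sum_const, Finset.card_univ, nsmul_one, ← Nat.card_eq_fintype_card,
      (CharP.cast_eq_zero_iff (AlgInt ⧸ M) p _).2 hD]

/-- The case of a symmetric form with trivial diagonal over the field with two elements. -/
theorem sqrtIndex_alternating_two {φ : H →* MulAut U} (hexp : ∀ x : U, x ^ 2 = 1)
    (hcop : ¬ 2 ∣ Nat.card H) (h2N : 2 ∣ N) {b : U → U → ℂ} (hb : IsForm 2 φ b)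
    (hsymm : ∀ x y, b x y = b y x) (hnd : Nondeg b) (hdiag : ∀ x, b x x = 1) :
    SqrtIndex N 2 φ := by
  haveI : Fact (Nat.Prime 2) := ⟨Nat.prime_two⟩
  have hinv : ∀ x : U, x⁻¹ = x := fun x =>
    inv_eq_of_mul_eq_one_left (by rw [← pow_two]; exact hexp x)
  have hbint : ∀ x y, IsIntegral ℤ (b x y) := fun x y =>
    IsIntegral.of_pow two_pos (hb.pow_eq x y ▸ isIntegral_one)
  have hsum : ∀ z, ∑ y : U, b y z = if z = 1 then (Nat.card U : ℂ) else 0 := fun z => by
    rw [← Fintype.sum_equiv (Subgroup.topEquiv (G := U)).toEquiv (fun y => b (y : U) z)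
      (fun y => b y z) (fun y => rfl), hb.sum_eq ⊤ z, Subgroup.card_top]
    by_cases hz : z = 1
    · subst hz; simp [hb.one_right]
    · rw [if_neg hz, if_neg fun h => hz (hnd z fun y => by rw [hsymm]; exact h y (Subgroup.mem_top y))]
  let F : Module.End ℂ (U → ℂ) :=
    { toFun := fun g x => ∑ y, b x y * g y
      map_add' := fun g g' => by funext x; simp [mul_add, Finset.sum_add_distrib]
      map_smul' := fun c g => by funext x; simp [Finset.mul_sum, mul_left_comm] }
  have hFF : F * F = (Nat.card U : ℂ) • 1 := by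
    refine LinearMap.ext fun g => funext fun x => ?_
    show ∑ y, b x y * (∑ z, b y z * g z) = (Nat.card U : ℂ) * g x
    simp only [Finset.mul_sum]
    rw [Finset.sum_comm, Fintype.sum_eq_single x]
    · rw [Finset.sum_congr rfl (g := fun _ => g x) fun y _ => ?_, Finset.sum_const,
        Finset.card_univ, nsmul_eq_mul, Nat.card_eq_fintype_card]
      rw [← mul_assoc, hsymm y x, ← pow_two, hb.pow_eq, one_mul]
    · intro z hz
      have e : ∀ y, b x y * (b y z * g z) = b y (x * z) * g z := fun y => by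
        rw [hb.mul_right, hsymm x y, mul_assoc]
      rw [Finset.sum_congr rfl fun y _ => e y, ← Finset.sum_mul, hsum, if_neg, zero_mul]
      intro h
      exact hz (by rw [mul_eq_one_iff_eq_inv.1 h, hinv])
  have hFc : ∀ h, Commute F (permRep φ h) := fun h => LinearMap.ext fun g => funext fun x => by
    show ∑ y, b x y * g (φ h⁻¹ y) = ∑ y, b (φ h⁻¹ x) y * g y
    refine Fintype.sum_equiv (φ h⁻¹).toEquiv _ _ fun y => ?_
    show b x y * g (φ h⁻¹ y) = b (φ h⁻¹ x) (φ h⁻¹ y) * g (φ h⁻¹ y)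
    rw [hb.invariant]
  let r : ℂ := (Real.sqrt (Nat.card U) : ℝ)
  have hr : r ^ 2 = (Nat.card U : ℂ) := by
    simp only [r]
    rw [← Complex.ofReal_pow, Real.sq_sqrt (Nat.cast_nonneg _)]
    simp
  have hr0 : r ≠ 0 := fun h0 => by
    rw [h0] at hr
    exact Nat.cast_ne_zero.2 (Nat.card_pos (α := U)).ne' ((zero_pow two_ne_zero).symm.trans hr).symm
  have hT : (r⁻¹ • F) ^ 2 = 1 := by
    rw [smul_pow, pow_two F, hFF, smul_smul, inv_pow, hr, inv_mul_cancel₀
      (Nat.cast_ne_zero.2 Nat.card_pos.ne'), one_smul]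
  obtain ⟨hS, -⟩ := intVC_trace (N := N) (permRep φ) (r⁻¹ • F) two_pos hT
    fun h => (hFc h).smul_left _
  let S : H → ℂ := fun h => ∑ x, b x (φ h x)
  have hS' : IntVC S := by
    have h1 := IntVC.smul (c := r) (IsIntegral.of_pow two_pos (hr ▸ isIntegral_natCast' _)) hS
    refine Eq.mp (congrArg IntVC (funext fun h => ?_)) h1
    simp only [Pi.smul_apply, smul_eq_mul]
    rw [smul_mul_assoc, map_smul, smul_eq_mul, ← mul_assoc, mul_inv_cancel₀ hr0, one_mul,
      trace_eq_sum_single]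
    refine Finset.sum_congr rfl fun x _ => ?_
    rw [Module.End.mul_apply, permRep_single]
    show ∑ y, b x y * (Pi.single (φ h x) (1 : ℂ) : U → ℂ) y = b x (φ h x)
    simp [Pi.single_apply]
  have hsq : ∀ h, S h * S h = (Nat.card U : ℂ) * Nat.card (fixPts φ h) := by
    intro h
    have e : ∀ y, S h * b y (φ h y) = ∑ z, b z (φ h z) * b y (φ h z * φ h⁻¹ z) := fun y => by
      show (∑ x, b x (φ h x)) * b y (φ h y) = _
      rw [Finset.sum_mul]
      refine Fintype.sum_equiv (Equiv.mulLeft y⁻¹) _ _ fun x => ?_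
      simp only [Equiv.coe_mulLeft]
      set z := y⁻¹ * x with hz
      rw [show x = y * z by rw [hz, mul_inv_cancel_left], map_mul, hb.mul_left, hb.mul_right,
        hb.mul_right, hb.mul_right]
      have h1 : b z (φ h y) = b y (φ h⁻¹ z) := by
        rw [hsymm z, ← hb.invariant h⁻¹, map_inv,
          show (φ h)⁻¹ (φ h y) = y from (φ h).symm_apply_apply y]
      have h2 := hb.pow_eq y (φ h y)
      rw [h1]
      linear_combination (b y (φ h z) * b y (φ h⁻¹ z) * b z (φ h z)) * h2
    conv_lhs => arg 2; rw [show S h = ∑ y, b y (φ h y) from rfl]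
    rw [Finset.mul_sum, Finset.sum_congr rfl fun y _ => e y, Finset.sum_comm]
    simp only [← Finset.mul_sum, hsum, mul_ite, mul_zero]
    rw [Finset.sum_ite, Finset.sum_const_zero, add_zero,
      Finset.sum_congr rfl (g := fun _ => (Nat.card U : ℂ)) fun z hz => ?_, Finset.sum_const,
      nsmul_eq_mul, mul_comm, Nat.card_eq_fintype_card (α := fixPts φ h), Fintype.card_subtype]
    · congr 3
      ext z
      simp only [Finset.mem_filter, Finset.mem_univ, true_and, mem_fixPts]
      constructor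
      · intro hz
        have hz' : φ (h * h) z = z := by
          have h3 := congrArg (φ h) (mul_eq_one_iff_eq_inv.1 hz)
          rw [hinv] at h3
          rw [map_mul, MulAut.mul_apply, h3, map_inv]
          exact (φ h).apply_symm_apply z
        obtain ⟨j, hj⟩ := Nat.odd_iff.2 (Nat.two_dvd_ne_zero.1 fun hd => hcop
          (hd.trans (orderOf_dvd_natCard h)))
        have hpow : h = (h * h) ^ (j + 1) := by
          rw [← pow_two, ← pow_mul, show 2 * (j + 1) = orderOf h + 1 by omega, pow_succ,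
            pow_orderOf_eq_one, one_mul]
        rw [hpow, map_pow]
        clear hpow hj
        induction j + 1 with
        | zero => simp
        | succ i ih => rw [pow_succ, MulAut.mul_apply, hz', ih]
      · intro hz
        have : φ h⁻¹ z = z := by
          conv_lhs => rw [← hz, map_inv]
          exact (φ h).symm_apply_apply z
        rw [hz, this, ← pow_two, hexp]
    · obtain ⟨-, hz⟩ := Finset.mem_filter.1 hz
      have hz' : φ h z = φ h⁻¹ z := by rw [mul_eq_one_iff_eq_inv.1 hz, hinv]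
      have : b z (φ h z) = 1 := by
        -- `φ h z = φ h⁻¹ z` forces `z` to be fixed
        have hzz : φ (h * h) z = z := by
          rw [map_mul, MulAut.mul_apply, hz', map_inv]
          exact (φ h).apply_symm_apply z
        obtain ⟨j, hj⟩ := Nat.odd_iff.2 (Nat.two_dvd_ne_zero.1 fun hd => hcop
          (hd.trans (orderOf_dvd_natCard h)))
        have hpow : h = (h * h) ^ (j + 1) := by
          rw [← pow_two, ← pow_mul, show 2 * (j + 1) = orderOf h + 1 by omega, pow_succ,
            pow_orderOf_eq_one, one_mul]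
        have hfix : φ h z = z := by
          rw [hpow, map_pow]
          clear hpow hj
          induction j + 1 with
          | zero => simp
          | succ i ih => rw [pow_succ, MulAut.mul_apply, hzz, ih]
        rw [hfix, hdiag]
      rw [this, one_mul]
  have hC0 : ∀ h, (Nat.card (fixPts φ h) : ℂ) ≠ 0 := fun h => Nat.cast_ne_zero.2 Nat.card_pos.ne'
  have hE2 : ∀ h, (S h / Nat.card (fixPts φ h)) ^ 2 = ((fixPts φ h).index : ℂ) := fun h => by
    rw [div_pow, pow_two, hsq, ← (fixPts φ h).card_mul_index, Nat.cast_mul]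
    field_simp [hC0 h]
  obtain ⟨k, hk⟩ : ∃ k, Nat.card U = 2 ^ k :=
    (IsPGroup.iff_card (p := 2)).1 fun x => ⟨1, by simpa using hexp x⟩
  refine ⟨fun h => S h / Nat.card (fixPts φ h), ?_, ?_, fun h => ⟨?_, ?_, fun hne M hM hpM => ?_⟩⟩
  · refine intVC_of_mul_eq Nat.prime_two hcop
      (fun h => IsIntegral.of_pow two_pos (hE2 h ▸ isIntegral_natCast' _)) hS' (k := k) fun h => ?_
    rw [div_mul_eq_mul_div, hsq, mul_div_cancel_right₀ _ (hC0 h), hk, Nat.cast_pow]
  · show (∑ x, b x (φ 1 x)) / (Nat.card (fixPts φ (1 : H)) : ℂ) = 1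
    rw [fixPts_one, Subgroup.card_top, map_one]
    simp only [MulAut.one_apply]
    rw [      Finset.sum_congr rfl (g := fun _ => (1 : ℂ)) fun x _ => hdiag x, Finset.sum_const,
      Finset.card_univ, nsmul_one, Nat.card_eq_fintype_card,
      div_self (Nat.cast_ne_zero.2 Fintype.card_ne_zero)]
  · exact (InCyc.sum _ fun x _ => inCyc_of_pow_dvd h2N (hb.pow_eq _ _)).div (inCyc_natCast N _)
  · have h1 := congrArg (fun z : ℂ => ‖z‖) (hE2 h)
    simp only [norm_pow, Complex.norm_natCast] at h1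
    rw [h1, ← Nat.cast_mul, mul_comm, Subgroup.card_mul_index]
  · haveI := hM
    refine MemLocalIdeal.of_pow (n := 2) (memLocalRing_of_isIntegral
      (IsIntegral.of_pow two_pos (hE2 h ▸ isIntegral_natCast' _))) ?_
    rw [hE2]
    refine (memLocalIdeal_natCast_iff hpM _).2 ?_
    obtain ⟨j, -, hj⟩ := (Nat.dvd_prime_pow Nat.prime_two).1
      (hk ▸ (fixPts φ h).index_dvd_card)
    rcases Nat.eq_zero_or_pos j with rfl | hj'
    · exact absurd (Subgroup.index_eq_one.1 hj) hne
    · exact hj ▸ dvd_pow_self 2 hj'.ne'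

/-- `p = 2` and a symmetric nondegenerate form: split off the fixed points. -/
theorem sqrtIndex_symm_two {φ : H →* MulAut U} (hexp : ∀ x : U, x ^ 2 = 1)
    (hcop : ¬ 2 ∣ Nat.card H) (h2N : 2 ∣ N) {b : U → U → ℂ} (hb : IsForm 2 φ b)
    (hsymm : ∀ x y, b x y = b y x) (hnd : Nondeg b) : SqrtIndex N 2 φ := by
  haveI : Fact (Nat.Prime 2) := ⟨Nat.prime_two⟩
  let K : Subgroup U :=
    { carrier := {x | ∀ h, φ h x = x}
      one_mem' := fun h => map_one _
      mul_mem' := fun {x y} hx hy h => by rw [map_mul, hx h, hy h]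
      inv_mem' := fun {x} hx h => by rw [map_inv, hx h] }
  have hK : ∀ h, ∀ x ∈ K, φ h x ∈ K := fun h x hx k => by rw [hx h]; exact hx k
  have hKnd : ∀ a ∈ K, (∀ c ∈ K, b a c = 1) → a = 1 := fun a ha h =>
    eq_one_of_fixed hb hnd hcop ⊤ (fun k _ => ha k) fun u hu =>
      h u fun k => hu k (Subgroup.mem_top k)
  have hD := orth_invariant hb hK
  refine sqrtIndex_prod hK hD (inf_orth_eq_bot hb hKnd) (exists_mul_orth hb hKnd)
    (sqrtIndex_trivial fun x => eq_top_iff.2 fun y _ => Subtype.ext (y.2 x)) ?_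
  refine sqrtIndex_alternating_two (fun x => Subtype.ext (by simpa using hexp x)) hcop h2N
    (hb.restrict _ hD) (fun x y => hsymm _ _) ?_ ?_
  · intro a ha
    refine Subtype.ext (hnd a fun c => ?_)
    obtain ⟨k, hk, d, hd, rfl⟩ := exists_mul_orth hb hKnd c
    rw [hb.mul_right, a.2 k hk, one_mul]
    exact ha ⟨d, hd⟩
  · intro x
    -- the diagonal is an invariant homomorphism, trivial without fixed points
    show b (x : U) x = 1
    have hl : ∀ u w : U, b (u * w) (u * w) = b u u * b w w := fun u w => by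
      rw [hb.mul_left, hb.mul_right, hb.mul_right, hsymm w u]
      linear_combination (b u u * b w w) * hb.pow_eq u w
    let l : U →* ℂ :=
      { toFun := fun u => b u u, map_one' := hb.one_left 1, map_mul' := hl }
    have h1 : l (∏ h : H, φ h x) = l x ^ Fintype.card H := by
      rw [map_prod, ← Finset.card_univ, ← Finset.prod_const]
      exact Finset.prod_congr rfl fun h _ => hb.invariant h _ _
    have h2 : (∏ h : H, φ h (x : U)) ∈ K ⊓ orth hb K := by
      refine ⟨fun k => ?_, prod_mem fun h _ => hD h x x.2⟩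
      rw [map_prod]
      exact Fintype.prod_equiv (Equiv.mulLeft k) _ _ fun h => by simp [map_mul, MulAut.mul_apply]
    rw [inf_orth_eq_bot hb hKnd, Subgroup.mem_bot] at h2
    rw [h2, map_one] at h1
    exact eq_one_of_pow_coprime (x := b (x : U) x) h1.symm (hb.pow_eq _ _)
      (((Nat.Prime.coprime_iff_not_dvd Nat.prime_two).2
        (by rwa [← Nat.card_eq_fintype_card])).symm)

end Cfsg.Agent.KGV
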