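import Cfsg.Agent.Lib.KGV.SqrtIndexTwisted
import Cfsg.Agent.Lib.Coprime.AbelianMaschke

/-!
# Square roots of the index of the fixed points, for any invariant nondegenerate form

`sqrtIndex_of_form`: a coprime group acting on an elementary abelian `p`-group with an invariant
nondegenerate bicharacter has a `SqrtIndex` function. The form is split into a part with
nondegenerate symmetrisation, hyperbolic parts and an alternating part.
-/

set_option autoImplicit false
set_option linter.style.haveILetI false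
set_option linter.unusedSectionVars false

namespace Cfsg.Agent.KGV

open Cfsg Cfsg.Agent.Blocks
open scoped ComplexConjugate Classical

universe u

variable {H : Type u} [Group H] [Fintype H] {U : Type u} [CommGroup U] [Fintype U]
variable {p N : ℕ} [hp : Fact p.Prime] {φ : H →* MulAut U} {τ : U → U → ℂ}

/-- An invariant subgroup of an elementary abelian group has an equivariant projection killing
it. -/
theorem exists_projection (hexp : ∀ x : U, x ^ p = 1) (hcop : ¬ p ∣ Nat.card H) {L : Subgroup U}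
    (hL : ∀ h, ∀ x ∈ L, φ h x ∈ L) :
    ∃ π : U →* U, (∀ l ∈ L, π l = 1) ∧ (∀ u, u / π u ∈ L) ∧ (∀ u, π u ∈ L → π u = 1) ∧
      (∀ h u, π (φ h u) = φ h (π u)) ∧ ∀ u, π (π u) = π u := by
  have hX : (Nat.card φ.range).Coprime p :=
    Nat.Coprime.coprime_dvd_left (Subgroup.card_range_dvd φ)
      (hp.out.coprime_iff_not_dvd.2 hcop).symm
  obtain ⟨Y, -, hYi, hYL, hYT⟩ := Coprime.exists_invariant_compl_elementary φ.range hX
    (C := ⊥) (S := L) (T := ⊤) bot_le le_top (fun t _ => by simp [hexp t])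
    (fun x _ a ha => by rw [Subgroup.mem_bot] at ha ⊢; rw [ha, map_one])
    (by rintro x ⟨h, rfl⟩ a ha; exact hL h a ha) (fun _ _ _ _ => Subgroup.mem_top _)
  let m : Y × L →* U := Y.subtype.coprod L.subtype
  have hm : Function.Bijective m := by
    constructor
    · rw [injective_iff_map_eq_one]
      rintro ⟨k, d⟩ (hkd : (k : U) * d = 1)
      have hk : (k : U) ∈ Y ⊓ L :=
        Subgroup.mem_inf.2 ⟨k.2, by rw [mul_eq_one_iff_eq_inv.1 hkd]; exact inv_mem d.2⟩
      rw [hYL, Subgroup.mem_bot] at hk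
      rw [hk, one_mul] at hkd
      exact Prod.ext (Subtype.ext hk) (Subtype.ext hkd)
    · intro u
      obtain ⟨y, hy, l, hl, rfl⟩ := Subgroup.mem_sup.1 (hYT ▸ Subgroup.mem_top u : u ∈ Y ⊔ L)
      exact ⟨(⟨y, hy⟩, ⟨l, hl⟩), rfl⟩
  let e : Y × L ≃* U := MulEquiv.ofBijective m hm
  let π : U →* U := (Y.subtype.comp (MonoidHom.fst Y L)).comp e.symm.toMonoidHom
  have huniq : ∀ u y, y ∈ Y → u / y ∈ L → π u = y := by
    intro u y hy hl
    have he : e (⟨y, hy⟩, ⟨u / y, hl⟩) = u := mul_div_cancel y u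
    show ((e.symm u).1 : U) = y
    rw [← he, MulEquiv.symm_apply_apply]
  have hdec : ∀ u, π u ∈ Y ∧ u / π u ∈ L := by
    intro u
    obtain ⟨⟨y, l⟩, hu⟩ := hm.2 u
    have hl : u / (y : U) ∈ L := by
      rw [← hu, show m (y, l) = (y : U) * l from rfl, mul_div_cancel_left]
      exact l.2
    rw [huniq u y y.2 hl]
    exact ⟨y.2, hl⟩
  refine ⟨π, fun l hl => huniq l 1 (one_mem _) (by rw [div_one]; exact hl), fun u => (hdec u).2,
    fun u hu => ?_, fun h u => ?_, fun u => huniq _ _ (hdec u).1 (by rw [div_self']; exact one_mem _)⟩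
  · have : π u ∈ Y ⊓ L := ⟨(hdec u).1, hu⟩
    rwa [hYL, Subgroup.mem_bot] at this
  · refine huniq _ _ (hYi (φ h) ⟨h, rfl⟩ _ (hdec u).1) ?_
    rw [← map_div]
    exact hL h _ (hdec u).2

/-- A nondegenerate invariant form gives a square root of the index of the fixed points. -/
theorem sqrtIndex_of_form (hcop : ¬ p ∣ Nat.card H) (hpN : p ∣ N) (hHN : Nat.card H ∣ N) :
    ∀ (n : ℕ) {U : Type u} [CommGroup U] [Fintype U] {φ : H →* MulAut U} {τ : U → U → ℂ},
      Nat.card U = n → (∀ x : U, x ^ p = 1) → IsForm p φ τ → Nondeg τ → SqrtIndex N p φ := by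
  intro n
  induction n using Nat.strong_induction_on with
  | _ n ih =>
  intro U _ _ φ τ hn hexp hτ hnd
  let σ : U → U → ℂ := fun a b => τ a b * τ b a
  have hσ : IsForm p φ σ := by
    refine ⟨fun a b c => ?_, fun a b c => ?_, fun a b => ?_, fun h a b => ?_⟩
    · simp only [σ, hτ.mul_left, hτ.mul_right]; ring
    · simp only [σ, hτ.mul_left, hτ.mul_right]; ring
    · simp only [σ, mul_pow, hτ.pow_eq, one_mul]
    · simp only [σ, hτ.invariant]
  have hσs : ∀ a b, σ a b = σ b a := fun a b => mul_comm _ _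
  set R := orth hσ ⊤ with hRdef
  have hR : ∀ r ∈ R, ∀ u, τ r u * τ u r = 1 := fun r hr u => hr u (Subgroup.mem_top u)
  have hRi : ∀ h, ∀ x ∈ R, φ h x ∈ R := orth_invariant hσ fun _ _ _ => Subgroup.mem_top _
  -- splitting off a component
  have step : ∀ K : Subgroup U, (∀ h, ∀ x ∈ K, φ h x ∈ K) → K ≠ ⊥ →
      (∀ a ∈ K, (∀ b ∈ K, τ a b = 1) → a = 1) →
      (∀ hK : ∀ h, ∀ x ∈ K, φ h x ∈ K, SqrtIndex N p (subAct φ K hK)) → SqrtIndex N p φ := by
    intro K hK hK0 hKnd hKS
    have hdis := inf_orth_eq_bot hτ hKnd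
    refine sqrtIndex_prod hK (orth_invariant hτ hK) hdis (exists_mul_orth hτ hKnd) (hKS hK) ?_
    have hlt : Nat.card (orth hτ K) < n := by
      rw [← hn]
      refine lt_of_le_of_ne (Subgroup.card_le_card_group _) fun he => hK0 ?_
      rw [Subgroup.eq_top_of_card_eq _ he] at hdis
      simpa using hdis
    refine ih _ hlt rfl (fun x => Subtype.ext (by simpa using hexp x))
      (hτ.restrict _ (orth_invariant hτ hK)) fun a ha => Subtype.ext (hnd a fun u => ?_)
    obtain ⟨k, hk, d, hd, rfl⟩ := exists_mul_orth hτ hKnd u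
    rw [hτ.mul_right, a.2 k hk, ha ⟨d, hd⟩, one_mul]
  rcases em (R = ⊥) with hR0 | hR0
  · refine sqrtIndex_quadratic hexp hcop hpN hσ hσs (fun a ha => ?_) (f := fun a => τ a a)
      (fun a b => ?_) (fun a => hτ.pow_eq a a) (fun h a => hτ.invariant h a a)
    · have : a ∈ R := fun b _ => ha b
      rwa [hR0, Subgroup.mem_bot] at this
    · simp only [σ, hτ.mul_left, hτ.mul_right]; ring
  set Z := R ⊓ orth hτ R with hZdef
  rcases em (Z = ⊥) with hZ0 | hZ0
  · -- the form is alternating and nondegenerate on `R`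
    have hnR : ∀ a ∈ R, (∀ b ∈ R, τ a b = 1) → a = 1 := fun a ha h => by
      have : a ∈ Z := ⟨ha, h⟩
      rwa [hZ0, Subgroup.mem_bot] at this
    refine step R hRi hR0 hnR fun hK => ?_
    have hexp' : ∀ x : R, x ^ p = 1 := fun x => Subtype.ext (by simpa using hexp x)
    have hτ' := hτ.restrict R hK
    have halt : ∀ a b : R, τ a b * τ b a = 1 := fun a b => hR a a.2 b
    have hnd' : Nondeg fun a b : R => τ a b := fun a ha =>
      Subtype.ext (hnR a a.2 fun b hb => ha ⟨b, hb⟩)
    rcases em (p = 2) with rfl | hp2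
    · refine sqrtIndex_symm_two hexp' hcop hpN hτ' (fun a b => ?_) hnd'
      have h2 := hτ.pow_eq (b : U) a
      calc τ (a : U) b = τ (a : U) b * (τ (b : U) a) ^ 2 := by rw [h2, mul_one]
        _ = τ (a : U) b * τ (b : U) a * τ (b : U) a := by ring
        _ = τ (b : U) a := by rw [halt a b, one_mul]
    · exact sqrtIndex_symplectic hexp' hcop hp2 hHN hτ' halt hnd'
  -- a hyperbolic component through `Z`
  have hZi : ∀ h, ∀ x ∈ Z, φ h x ∈ Z := fun h x hx =>
    ⟨hRi h x hx.1, orth_invariant hτ hRi h x hx.2⟩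
  set L := orth hτ Z with hLdef
  have hLi : ∀ h, ∀ x ∈ L, φ h x ∈ L := orth_invariant hτ hZi
  obtain ⟨π, hπL, hπd, hπ0, hπφ, hππ⟩ := exists_projection hexp hcop hLi
  have hZZ : ∀ a ∈ Z, ∀ b ∈ Z, τ a b = 1 := fun a ha b hb => ha.2 b hb.1
  have hπZ : ∀ z ∈ Z, π z = 1 := fun z hz => hπL z fun b hb => hZZ z hz b hb
  -- the quadratic map
  let f : U → ℂ := fun a => τ (π a) (a / π a)
  let P : U → U → ℂ := fun a b => τ (π a) (b / π b) * τ (π b) (a / π a)
  have hdiv : ∀ a b, a * b / π (a * b) = a / π a * (b / π b) := fun a b => by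
    rw [map_mul, mul_div_mul_comm]
  have hP : IsForm p φ P := by
    refine ⟨fun a b c => ?_, fun a b c => ?_, fun a b => ?_, fun h a b => ?_⟩
    · simp only [P, hdiv]; simp only [map_mul π, hτ.mul_left, hτ.mul_right]; ring
    · simp only [P, hdiv]; simp only [map_mul π, hτ.mul_left, hτ.mul_right]; ring
    · simp only [P, mul_pow, hτ.pow_eq, one_mul]
    · simp only [P, hπφ, ← map_div, hτ.invariant]
  set K := Z ⊔ π.range with hKdef
  have hKi : ∀ h, ∀ x ∈ K, φ h x ∈ K := by
    intro h x hx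
    obtain ⟨z, hz, _, ⟨u, rfl⟩, rfl⟩ := Subgroup.mem_sup.1 hx
    rw [map_mul, ← hπφ]
    exact mul_mem (Subgroup.mem_sup_left (hZi h z hz)) (Subgroup.mem_sup_right ⟨_, rfl⟩)
  -- orthogonality to `Z` of an element in the image
  have hker : ∀ y, π y = y → (∀ z ∈ Z, τ y z = 1) → y = 1 := fun y hy h => by
    rw [← hy]
    exact hπ0 y (by rw [hy]; exact h)
  have hzero : ∀ z ∈ Z, (∀ u, τ (π u) z = 1) → z = 1 := fun z hz h => hnd z fun u => by
    have h1 : τ u z = 1 := by
      rw [show u = π u * (u / π u) from (mul_div_cancel _ _).symm, hτ.mul_left, h u, one_mul]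
      exact hπd u z hz
    have h2 := hR z hz.1 u
    rwa [h1, mul_one] at h2
  have hKnd : ∀ a ∈ K, (∀ b ∈ K, τ a b = 1) → a = 1 := by
    intro a ha h
    obtain ⟨z, hz, _, ⟨v, rfl⟩, rfl⟩ := Subgroup.mem_sup.1 ha
    have hv : π v = 1 := hker _ (hππ v) fun z' hz' => by
      have h1 := h z' (Subgroup.mem_sup_left hz')
      rwa [hτ.mul_left, hZZ z hz z' hz', one_mul] at h1
    rw [hv, mul_one]
    refine hzero z hz fun u => ?_
    have h1 := h (π u) (Subgroup.mem_sup_right ⟨u, rfl⟩)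
    rw [hv, mul_one] at h1
    have h2 := hR z hz.1 (π u)
    rwa [h1, one_mul] at h2
  refine step K hKi (fun h0 => hZ0 (eq_bot_iff.2 (le_sup_left.trans h0.le))) hKnd fun hK => ?_
  refine sqrtIndex_quadratic (fun x => Subtype.ext (by simpa using hexp x)) hcop hpN
    (hP.restrict K hK) (fun a b => mul_comm _ _) (fun a ha => ?_) (f := fun a : K => f a)
    (fun a b => ?_) (fun a => hτ.pow_eq _ _) (fun h a => ?_)
  · obtain ⟨z, hz, _, ⟨v, rfl⟩, he⟩ := Subgroup.mem_sup.1 a.2
    have hπa : π (a : U) = π v := by rw [← he, map_mul, hπZ z hz, hππ, one_mul]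
    have hda : (a : U) / π (a : U) = z := by rw [hπa, ← he, mul_div_cancel_right]
    have hv : π v = 1 := hker _ (hππ v) fun z' hz' => by
      have h1 : P a z' = 1 := ha ⟨z', Subgroup.mem_sup_left hz'⟩
      simpa [P, hπZ z' hz', hτ.one_left, hπa] using h1
    refine Subtype.ext ?_
    show (a : U) = 1
    rw [← he, hv, mul_one]
    refine hzero z hz fun u => ?_
    have h1 : P a (π u) = 1 := ha ⟨π u, Subgroup.mem_sup_right ⟨u, rfl⟩⟩
    have haz : (a : U) = z := by rw [← he, hv, mul_one]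
    rw [← haz]
    simpa [P, hππ, hπa, hv, hτ.one_left] using h1
  · show f ((a : U) * b) = f a * f b * P a b
    simp only [f, P, hdiv]; simp only [map_mul π, hτ.mul_left, hτ.mul_right]; ring
  · show f (φ h a) = f a
    simp only [f, hπφ, ← map_div, hτ.invariant]

end Cfsg.Agent.KGV
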