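import Cfsg.Agent.Lib.KGV.SqrtIndex

/-!
# The symplectic case: normalised intertwiners in the twisted group algebra

For an invariant nondegenerate form `τ` with `τ a b * τ b a = 1` and `p` odd, the twisted group
algebra of `U` carries the operators `twX φ τ h = ∑ u, e (h u) e u⁻¹`; normalised by their
determinants they form a representation of `H` with character of absolute value squared
`|U| |C_U(h)|` (the Weil representation, in its regular form).
-/

set_option autoImplicit false
set_option linter.style.haveILetI false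
set_option linter.unusedSectionVars false
set_option linter.unusedVariables false

namespace Cfsg.Agent.KGV

open Cfsg Cfsg.Agent.Blocks
open scoped ComplexConjugate Classical

universe u

variable {H : Type u} [Group H] [Fintype H] {U : Type u} [CommGroup U] [Fintype U]

/-- Left twisted translation. -/
noncomputable def twL (τ : U → U → ℂ) (a : U) : Module.End ℂ (U → ℂ) where
  toFun g x := τ a (a⁻¹ * x) * g (a⁻¹ * x)
  map_add' g g' := by funext x; simp [mul_add]
  map_smul' c g := by funext x; simp [mul_left_comm]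

/-- Right twisted translation. -/
noncomputable def twR (τ : U → U → ℂ) (b : U) : Module.End ℂ (U → ℂ) where
  toFun g x := τ (x * b⁻¹) b * g (x * b⁻¹)
  map_add' g g' := by funext x; simp [mul_add]
  map_smul' c g := by funext x; simp [mul_left_comm]

/-- The intertwiner of `φ h`. -/
noncomputable def twX (φ : H →* MulAut U) (τ : U → U → ℂ) (h : H) : Module.End ℂ (U → ℂ) :=
  ∑ u, twL τ (φ h u) * twL τ u⁻¹

/-- The displacement `u ↦ (h u) u⁻¹`. -/
def displ (φ : H →* MulAut U) (h : H) : U →* U where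
  toFun u := φ h u * u⁻¹
  map_one' := by simp
  map_mul' u w := by rw [map_mul, mul_inv, mul_mul_mul_comm]

variable {p : ℕ} [hp : Fact p.Prime] {φ : H →* MulAut U} {τ : U → U → ℂ}

theorem ker_displ (φ : H →* MulAut U) (h : H) : (displ φ h).ker = fixPts φ h := by
  ext u
  rw [MonoidHom.mem_ker]
  exact mul_inv_eq_one

theorem twL_single (hτ : IsForm p φ τ) (a y : U) :
    twL τ a (Pi.single y (1 : ℂ)) = τ a y • Pi.single (a * y) (1 : ℂ) := by
  funext x
  show τ a (a⁻¹ * x) * (Pi.single y (1 : ℂ) : U → ℂ) (a⁻¹ * x) =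
    τ a y * (Pi.single (a * y) (1 : ℂ) : U → ℂ) x
  by_cases hx : x = a * y
  · subst hx; simp
  · rw [Pi.single_eq_of_ne hx, Pi.single_eq_of_ne, mul_zero, mul_zero]
    exact fun h => hx (inv_mul_eq_iff_eq_mul.1 h)

theorem twR_single_one (hτ : IsForm p φ τ) (b : U) :
    twR τ b (Pi.single 1 (1 : ℂ)) = Pi.single b (1 : ℂ) := by
  funext x
  show τ (x * b⁻¹) b * (Pi.single (1 : U) (1 : ℂ) : U → ℂ) (x * b⁻¹) = _
  by_cases hx : x = b
  · subst hx; simp [hτ.one_left]
  · rw [Pi.single_eq_of_ne hx, Pi.single_eq_of_ne, mul_zero]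
    exact fun h => hx (mul_inv_eq_one.1 h)

theorem twL_mul (hτ : IsForm p φ τ) (a b : U) : twL τ a * twL τ b = τ a b • twL τ (a * b) := by
  refine LinearMap.ext fun g => funext fun x => ?_
  show τ a (a⁻¹ * x) * (τ b (b⁻¹ * (a⁻¹ * x)) * g (b⁻¹ * (a⁻¹ * x))) =
    τ a b * (τ (a * b) ((a * b)⁻¹ * x) * g ((a * b)⁻¹ * x))
  rw [show (a * b)⁻¹ * x = b⁻¹ * (a⁻¹ * x) by rw [mul_inv_rev, mul_assoc]]
  set y := b⁻¹ * (a⁻¹ * x) with hy
  rw [show a⁻¹ * x = b * y by rw [hy, mul_inv_cancel_left], hτ.mul_right, hτ.mul_left]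
  ring

theorem twL_one (hτ : IsForm p φ τ) : twL τ (1 : U) = 1 := by
  refine LinearMap.ext fun g => funext fun x => ?_
  show τ 1 (1⁻¹ * x) * g (1⁻¹ * x) = g x
  simp [hτ.one_left]

theorem twL_comm_twR (hτ : IsForm p φ τ) (a b : U) : Commute (twL τ a) (twR τ b) := by
  refine LinearMap.ext fun g => funext fun x => ?_
  show τ a (a⁻¹ * x) * (τ (a⁻¹ * x * b⁻¹) b * g (a⁻¹ * x * b⁻¹)) =
    τ (x * b⁻¹) b * (τ a (a⁻¹ * (x * b⁻¹)) * g (a⁻¹ * (x * b⁻¹)))
  rw [show a⁻¹ * (x * b⁻¹) = a⁻¹ * x * b⁻¹ by rw [mul_assoc]]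
  set y := a⁻¹ * x * b⁻¹ with hy
  rw [show a⁻¹ * x = y * b by rw [hy, inv_mul_cancel_right],
    show x * b⁻¹ = a * y by rw [hy, mul_assoc a⁻¹, mul_inv_cancel_left],
    hτ.mul_right a y b, hτ.mul_left a y b]
  ring

variable (halt : ∀ a b, τ a b * τ b a = 1)

include halt in
theorem tau_self (hτ : IsForm p φ τ) (hp2 : p ≠ 2) (a : U) : τ a a = 1 :=
  eq_one_of_pow_coprime (by rw [pow_two]; exact halt a a) (hτ.pow_eq a a)
    (((Nat.coprime_primes Nat.prime_two hp.out).2 hp2.symm))

include halt in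
theorem twX_apply_single (hτ : IsForm p φ τ) (h : H) (y : U) :
    twX φ τ h (Pi.single y (1 : ℂ)) =
      ∑ u, (τ (φ h u) u⁻¹ * τ (displ φ h u) y) • Pi.single (displ φ h u * y) (1 : ℂ) := by
  rw [twX, LinearMap.sum_apply]
  refine Finset.sum_congr rfl fun u _ => ?_
  rw [twL_mul hτ, LinearMap.smul_apply, twL_single hτ, smul_smul]
  rfl

theorem twX_comm_twR (hτ : IsForm p φ τ) (h : H) (b : U) : Commute (twX φ τ h) (twR τ b) :=
  Commute.sum_left _ _ _ fun u _ => (twL_comm_twR hτ _ b).mul_left (twL_comm_twR hτ _ b)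

include halt in
theorem twX_mul_twL (hτ : IsForm p φ τ) (hp2 : p ≠ 2) (h : H) (a : U) :
    twX φ τ h * twL τ a = twL τ (φ h a) * twX φ τ h := by
  rw [twX, Finset.sum_mul, Finset.mul_sum]
  refine (Fintype.sum_equiv (Equiv.mulLeft a) _ _ fun v => ?_).symm
  simp only [Equiv.coe_mulLeft]
  have e1 : twL τ (φ h a) * twL τ (φ h v) = τ a v • twL τ (φ h (a * v)) := by
    rw [twL_mul hτ, hτ.invariant, map_mul]
  have e2 : twL τ (a * v)⁻¹ * twL τ a = τ a v • twL τ v⁻¹ := by
    rw [twL_mul hτ, show (a * v)⁻¹ * a = v⁻¹ by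
      rw [mul_inv_rev, mul_assoc, inv_mul_cancel, mul_one]]
    congr 1
    rw [hτ.inv_left, hτ.mul_left, tau_self halt hτ hp2, one_mul]
    exact (eq_inv_of_mul_eq_one_left (halt a v)).symm
  rw [← mul_assoc, e1, smul_mul_assoc, mul_assoc (twL τ (φ h (a * v))), e2, mul_smul_comm]

include halt in
theorem eq_smul_one_of_commute (hτ : IsForm p φ τ) (hp2 : p ≠ 2) (hnd : Nondeg τ)
    (Z : Module.End ℂ (U → ℂ)) (hL : ∀ a, Commute Z (twL τ a)) (hR : ∀ b, Commute Z (twR τ b)) :
    Z = (Z (Pi.single 1 1) 1) • (1 : Module.End ℂ (U → ℂ)) := by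
  set z := Z (Pi.single 1 (1 : ℂ)) with hz
  have hLd : ∀ b, twL τ b (Pi.single 1 (1 : ℂ)) = Pi.single b (1 : ℂ) := fun b => by
    rw [twL_single hτ, hτ.one_right, one_smul, mul_one]
  have h1 : ∀ b, Z (Pi.single b (1 : ℂ)) = twR τ b z ∧ Z (Pi.single b (1 : ℂ)) = twL τ b z :=
    fun b => ⟨by
      rw [← twR_single_one hτ b]
      exact LinearMap.congr_fun (hR b) _, by
      rw [← hLd b]
      exact LinearMap.congr_fun (hL b) _⟩
  have hz0 : ∀ a, a ≠ 1 → z a = 0 := by
    intro a ha
    by_contra hne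
    refine ha (hnd a fun b => ?_)
    have h2 := congrFun ((h1 b).1.symm.trans (h1 b).2) (a * b)
    simp only [twR, twL, LinearMap.coe_mk, AddHom.coe_mk, mul_inv_cancel_right] at h2
    rw [show b⁻¹ * (a * b) = a by rw [mul_comm a b, inv_mul_cancel_left]] at h2
    have h3 : τ a b ^ 2 = 1 := by
      rw [pow_two]
      conv_lhs => arg 2; rw [mul_right_cancel₀ hne h2]
      exact halt a b
    exact eq_one_of_pow_coprime h3 (hτ.pow_eq a b) ((Nat.coprime_primes Nat.prime_two hp.out).2 hp2.symm)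
  refine LinearMap.pi_ext' fun b => LinearMap.ext_ring ?_
  funext x
  simp only [LinearMap.comp_apply, LinearMap.single_apply, LinearMap.smul_apply,
    Module.End.one_apply, Pi.smul_apply, smul_eq_mul]
  rw [(h1 b).1]
  show τ (x * b⁻¹) b * z (x * b⁻¹) = z 1 * (Pi.single b (1 : ℂ) : U → ℂ) x
  by_cases hx : x = b
  · subst hx; simp [hτ.one_left]
  · rw [hz0 _ fun h => hx (mul_inv_eq_one.1 h), Pi.single_eq_of_ne hx, mul_zero, mul_zero]

include halt in
theorem twX_mul_inv (hτ : IsForm p φ τ) (hp2 : p ≠ 2) (hnd : Nondeg τ) (h : H) :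
    twX φ τ h * twX φ τ h⁻¹ =
      ((Nat.card U : ℂ) * Nat.card (fixPts φ h)) • (1 : Module.End ℂ (U → ℂ)) := by
  have hinv : ∀ u, φ h⁻¹ (φ h u) = u := fun u => by rw [map_inv]; exact (φ h).symm_apply_apply u
  have hcomm : ∀ a, Commute (twX φ τ h * twX φ τ h⁻¹) (twL τ a) := fun a => by
    show twX φ τ h * twX φ τ h⁻¹ * twL τ a = twL τ a * (twX φ τ h * twX φ τ h⁻¹)
    rw [mul_assoc, twX_mul_twL halt hτ hp2, ← mul_assoc, twX_mul_twL halt hτ hp2, mul_assoc,
      show φ h (φ h⁻¹ a) = a by rw [map_inv]; exact (φ h).apply_symm_apply a]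
  rw [eq_smul_one_of_commute halt hτ hp2 hnd _ hcomm fun b =>
    (twX_comm_twR hτ h b).mul_left (twX_comm_twR hτ h⁻¹ b)]
  congr 1
  rw [Module.End.mul_apply, twX_apply_single halt hτ, map_sum, Finset.sum_apply]
  simp only [map_smul, Pi.smul_apply, twX_apply_single halt hτ, Finset.sum_apply, mul_one,
    hτ.one_right, smul_eq_mul, Pi.single_apply, mul_ite, mul_zero]
  rw [Finset.sum_congr rfl fun w _ => Finset.mul_sum _ _ _, Finset.sum_comm,
    Finset.sum_congr rfl (g := fun _ => (Nat.card (fixPts φ h) : ℂ)) fun u _ => ?_, Finset.sum_const,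
    Finset.card_univ, nsmul_eq_mul, ← Nat.card_eq_fintype_card]
  rw [← Fintype.sum_equiv ((Equiv.mulLeft u).trans (φ h).toEquiv)
    (fun c => if c ∈ fixPts φ h then (1 : ℂ) else 0) _ fun c => ?_]
  · rw [Finset.sum_boole, Nat.card_eq_fintype_card, Fintype.card_subtype]
  · show _ = τ (φ h⁻¹ (φ h (u * c))) (φ h (u * c))⁻¹ *
      if 1 = displ φ h u * displ φ h⁻¹ (φ h (u * c)) then
        τ (φ h u) u⁻¹ * τ (displ φ h u) (displ φ h⁻¹ (φ h (u * c))) else 0
    have hd : displ φ h⁻¹ (φ h (u * c)) = (displ φ h (u * c))⁻¹ := by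
      show φ h⁻¹ (φ h (u * c)) * (φ h (u * c))⁻¹ = (φ h (u * c) * (u * c)⁻¹)⁻¹
      rw [hinv, mul_inv_rev, inv_inv]
    rw [hd, hinv, map_mul (displ φ h)]
    by_cases hc : c ∈ fixPts φ h
    · have hc' : displ φ h c = 1 := (MonoidHom.mem_ker).1 (ker_displ φ h ▸ hc)
      rw [if_pos hc, hc', mul_one, if_pos (mul_inv_cancel _).symm]
      rw [hτ.inv_right (displ φ h u), tau_self halt hτ hp2 (displ φ h u), map_mul (φ h),
        show φ h c = c from hc, hτ.inv_right (u * c), hτ.inv_right (φ h u) u, hτ.mul_left u c,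
        hτ.mul_right u (φ h u) c, hτ.mul_right c (φ h u) c, tau_self halt hτ hp2 c, inv_one,
        mul_one, mul_one]
      have h1 : τ u (φ h u) * τ (φ h u) u = 1 := halt _ _
      have h2 : τ (φ h u) c = τ u c := by
        conv_lhs => rw [← show φ h c = c from hc]
        exact hτ.invariant h u c
      have h3 : τ c (φ h u) = (τ (φ h u) c)⁻¹ := eq_inv_of_mul_eq_one_left (halt _ _)
      have h4 : τ u (φ h u) = (τ (φ h u) u)⁻¹ := eq_inv_of_mul_eq_one_left (halt _ _)
      rw [h3, h2, h4]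
      field_simp [hτ.ne_zero]
    · rw [if_neg hc, if_neg ?_, mul_zero]
      intro he
      refine hc ?_
      rw [← ker_displ, MonoidHom.mem_ker]
      rw [mul_inv, ← mul_assoc, mul_inv_cancel, one_mul, eq_comm, inv_eq_one] at he
      exact he

theorem trace_twX (hτ : IsForm p φ τ) (halt : ∀ a b, τ a b * τ b a = 1) (hp2 : p ≠ 2) (h : H) :
    LinearMap.trace ℂ (U → ℂ) (twX φ τ h) = (Nat.card U : ℂ) * Nat.card (fixPts φ h) := by
  rw [trace_eq_sum_single, Finset.sum_congr rfl (g := fun _ => (Nat.card (fixPts φ h) : ℂ))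
    fun y _ => ?_, Finset.sum_const, Finset.card_univ, nsmul_eq_mul, ← Nat.card_eq_fintype_card]
  rw [twX_apply_single halt hτ, Finset.sum_apply,
    Finset.sum_congr rfl (g := fun u => if u ∈ fixPts φ h then (1 : ℂ) else 0) fun u _ => ?_,
    Finset.sum_boole, Nat.card_eq_fintype_card, Fintype.card_subtype]
  by_cases hu : u ∈ fixPts φ h
  · have hu' : displ φ h u = 1 := (MonoidHom.mem_ker).1 (ker_displ φ h ▸ hu)
    simp [hu, hu', hτ.one_left, show φ h u = u from hu, hτ.inv_right, tau_self halt hτ hp2]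
  · rw [if_neg hu, Pi.smul_apply, Pi.single_eq_of_ne, smul_zero]
    intro he
    refine hu ?_
    rw [← ker_displ, MonoidHom.mem_ker]
    exact (mul_eq_right.1 he.symm)

/-- A cocycle of exponent `n` of a group of order prime to `n` is a coboundary. -/
theorem exists_splitting {n : ℕ} (hn : (Nat.card H).Coprime n) (c : H → H → ℂ)
    (hcn : ∀ g h, c g h ^ n = 1) (hc0 : ∀ g h, c g h ≠ 0)
    (hass : ∀ g h k, c g h * c (g * h) k = c h k * c g (h * k)) :
    ∃ f : H → ℂ, (∀ g, f g ≠ 0) ∧ ∀ g h, c g h * f (g * h) = f g * f h := by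
  obtain ⟨j, hj⟩ : ∃ j, Nat.card H * j ≡ 1 [MOD n] := by
    have hg := Nat.gcd_eq_gcd_ab (Nat.card H) n
    rw [hn.gcd_eq_one] at hg
    rcases Nat.eq_zero_or_pos n with rfl | hn0
    · exact ⟨1, by rw [(Nat.coprime_zero_right _).1 hn]⟩
    refine ⟨((Nat.card H).gcdA n % n).toNat, ?_⟩
    rw [← Int.natCast_modEq_iff]
    push_cast
    rw [Int.toNat_of_nonneg (Int.emod_nonneg _ (by omega))]
    have h1 : ((Nat.card H : ℤ) * ((Nat.card H).gcdA n % n)) ≡ (Nat.card H : ℤ) * (Nat.card H).gcdA n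
        [ZMOD n] := Int.ModEq.mul_left _ (Int.mod_modEq _ _)
    refine h1.trans ?_
    rw [Int.modEq_iff_dvd]
    exact ⟨(Nat.card H).gcdB n, by push_cast at hg; linarith⟩
  let F : H → ℂ := fun g => ∏ k : H, c g k
  refine ⟨fun g => F g ^ j, fun g => pow_ne_zero _ (Finset.prod_ne_zero_iff.2 fun k _ => hc0 g k),
    fun g h => ?_⟩
  have h1 : c g h ^ Nat.card H * F (g * h) = F h * F g := by
    show c g h ^ Nat.card H * ∏ k : H, c (g * h) k = (∏ k : H, c h k) * ∏ k : H, c g k
    rw [Nat.card_eq_fintype_card, ← Finset.card_univ, ← Finset.prod_const, ← Finset.prod_mul_distrib,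
      Finset.prod_congr rfl fun k _ => hass g h k, Finset.prod_mul_distrib]
    congr 1
    exact Fintype.prod_equiv (Equiv.mulLeft h) _ _ fun k => rfl
  have h2 := congrArg (· ^ j) h1
  simp only [mul_pow, ← pow_mul] at h2
  rw [pow_eq_pow_of_modEq hj (hcn g h), pow_one] at h2
  rw [h2, mul_comm]

variable {N : ℕ}

include halt in
/-- The twisted regular Weil representation. -/
theorem exists_weil (hτ : IsForm p φ τ) (hp2 : p ≠ 2) (hnd : Nondeg τ)
    (hexp : ∀ x : U, x ^ p = 1) (hcop : ¬ p ∣ Nat.card H) :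
    ∃ β : H → ℂ, ∃ W : Representation ℂ H (U → ℂ), ∀ h, W h = β h • twX φ τ h := by
  let X := twX φ τ
  let D : Module.End ℂ (U → ℂ) →* ℂ := LinearMap.det
  set n := Nat.card U with hn
  have hn0 : 0 < n := Nat.card_pos
  have hrank : Module.finrank ℂ (U → ℂ) = n := by
    rw [Module.finrank_fintype_fun_eq_card, hn, Nat.card_eq_fintype_card]
  have hs : ∀ h, ((n : ℂ) * Nat.card (fixPts φ h)) ≠ 0 := fun h =>
    mul_ne_zero (Nat.cast_ne_zero.2 hn0.ne') (Nat.cast_ne_zero.2 Nat.card_pos.ne')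
  have hdet : ∀ h, D (X h) ≠ 0 := fun h h0 => by
    have h1 := congrArg D (twX_mul_inv halt hτ hp2 hnd h)
    rw [map_mul D, h0, zero_mul] at h1
    have h2 : D (((n : ℂ) * Nat.card (fixPts φ h)) • 1) =
        ((n : ℂ) * Nat.card (fixPts φ h)) ^ n := by
      show LinearMap.det _ = _
      rw [LinearMap.det_smul, map_one, mul_one, hrank]
    rw [h2] at h1
    exact pow_ne_zero n (hs h) h1.symm
  choose α hα using fun h => IsAlgClosed.exists_pow_nat_eq (D (X h))⁻¹ hn0
  have hα0 : ∀ h, α h ≠ 0 := fun h h0 => by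
    have h1 := hα h
    rw [h0, zero_pow hn0.ne'] at h1
    exact inv_ne_zero (hdet h) h1.symm
  let W₀ : H → Module.End ℂ (U → ℂ) := fun h => α h • X h
  have hW1 : ∀ h, D (W₀ h) = 1 := fun h => by
    show LinearMap.det _ = _
    rw [LinearMap.det_smul, hrank, hα h]
    exact inv_mul_cancel₀ (hdet h)
  have hW0 : ∀ h, W₀ h ≠ 0 := fun h h0 => by
    have h1 := hW1 h
    rw [h0] at h1
    have h2 : LinearMap.det (0 : Module.End ℂ (U → ℂ)) = 0 := LinearMap.det_zero' (Pi.basisFun ℂ U)
    exact one_ne_zero (h1.symm.trans h2)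
  have hexc : ∀ g h, ∃ c : ℂ, W₀ g * W₀ h = c • W₀ (g * h) := by
    intro g h
    set k := g * h with hk
    set Z := X k⁻¹ * (X g * X h) with hZ
    have hZL : ∀ a, Commute Z (twL τ a) := fun a => by
      show Z * twL τ a = twL τ a * Z
      have e : φ k⁻¹ (φ g (φ h a)) = a := by
        rw [show φ g (φ h a) = φ k a by rw [hk, map_mul, MulAut.mul_apply], map_inv]
        exact (φ k).symm_apply_apply a
      rw [hZ, mul_assoc, mul_assoc, twX_mul_twL halt hτ hp2, ← mul_assoc (X g),
        twX_mul_twL halt hτ hp2, mul_assoc (twL τ _), ← mul_assoc (X k⁻¹),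
        twX_mul_twL halt hτ hp2, e, mul_assoc]
    have hZR : ∀ b, Commute Z (twR τ b) := fun b =>
      (twX_comm_twR hτ _ b).mul_left ((twX_comm_twR hτ _ b).mul_left (twX_comm_twR hτ _ b))
    obtain ⟨z, hz⟩ : ∃ z : ℂ, Z = z • 1 := ⟨_, eq_smul_one_of_commute halt hτ hp2 hnd Z hZL hZR⟩
    set s := (n : ℂ) * Nat.card (fixPts φ k) with hsdef
    have h1 : s • (X g * X h) = z • X k := by
      have h2 := congrArg (fun Y => X k * Y) hz
      simp only [hZ, ← mul_assoc] at h2
      rw [show X k * X k⁻¹ = s • 1 from twX_mul_inv halt hτ hp2 hnd k, smul_mul_assoc, one_mul,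
        smul_mul_assoc, mul_smul_comm, mul_one] at h2
      exact h2
    refine ⟨α g * α h * (z / s) / α k, ?_⟩
    show (α g • X g) * (α h • X h) = _ • (α k • X k)
    have h3 : X g * X h = (z / s) • X k := by
      rw [div_eq_inv_mul, mul_smul, ← h1, smul_smul, inv_mul_cancel₀ (hs k), one_smul]
    rw [smul_mul_smul_comm, h3, smul_smul, smul_smul, div_mul_cancel₀ _ (hα0 k)]
  choose c hc using hexc
  have hcn : ∀ g h, c g h ^ n = 1 := fun g h => by
    have h1 := congrArg D (hc g h)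
    rw [map_mul D, hW1, hW1, one_mul] at h1
    have h2 : D (c g h • W₀ (g * h)) = c g h ^ n := by
      show LinearMap.det _ = _
      rw [LinearMap.det_smul, hrank, show LinearMap.det (W₀ (g * h)) = 1 from hW1 _, mul_one]
    exact h2.symm.trans h1.symm
  have hc0 : ∀ g h, c g h ≠ 0 := fun g h h0 => by
    have h1 := hcn g h
    rw [h0, zero_pow hn0.ne'] at h1
    exact zero_ne_one h1
  have hass : ∀ g h k, c g h * c (g * h) k = c h k * c g (h * k) := by
    intro g h k
    refine smul_left_injective ℂ (hW0 (g * h * k)) ?_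
    show (c g h * c (g * h) k) • W₀ (g * h * k) = (c h k * c g (h * k)) • W₀ (g * h * k)
    conv_lhs => rw [mul_smul, ← hc, ← smul_mul_assoc, ← hc]
    rw [mul_smul, mul_assoc g h k, ← hc g (h * k), ← mul_smul_comm, ← hc h k, mul_assoc]
  have hco : (Nat.card H).Coprime n := by
    obtain ⟨k, hk⟩ := (IsPGroup.iff_card (p := p) (G := U)).1 fun x => ⟨1, by simpa using hexp x⟩
    rw [hn, hk]
    exact Nat.Coprime.pow_right _ (hp.out.coprime_iff_not_dvd.2 hcop).symm
  obtain ⟨f, hf0, hf⟩ := exists_splitting hco c hcn hc0 hass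
  have hmul : ∀ g h, ((f g)⁻¹ • W₀ g) * ((f h)⁻¹ • W₀ h) = (f (g * h))⁻¹ • W₀ (g * h) := by
    intro g h
    rw [smul_mul_smul_comm, hc, smul_smul]
    congr 1
    field_simp [hf0 g, hf0 h, hf0 (g * h)]
    linear_combination hf g h
  suffices hone : (f 1)⁻¹ • W₀ 1 = 1 by
    let W : H →* Module.End ℂ (U → ℂ) :=
      { toFun := fun h => (f h)⁻¹ • W₀ h
        map_one' := hone
        map_mul' := fun g h => (hmul g h).symm }
    exact ⟨fun h => (f h)⁻¹ * α h, W, fun h => smul_smul _ _ _⟩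
  have hX1 : X 1 = (n : ℂ) • 1 := by
    show ∑ u, twL τ (φ 1 u) * twL τ u⁻¹ = _
    rw [Finset.sum_congr rfl (g := fun _ => (1 : Module.End ℂ (U → ℂ))) fun u _ => ?_,
      Finset.sum_const, Finset.card_univ, hn, Nat.card_eq_fintype_card, Nat.cast_smul_eq_nsmul]
    rw [map_one, MulAut.one_apply, twL_mul hτ, hτ.inv_right, tau_self halt hτ hp2, inv_one,
      one_smul, mul_inv_cancel, twL_one hτ]
  have h1 := hmul 1 1
  rw [mul_one] at h1
  set γ := (f 1)⁻¹ * (α 1 * n) with hγ
  have e : (f 1)⁻¹ • W₀ 1 = γ • (1 : Module.End ℂ (U → ℂ)) := by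
    show (f 1)⁻¹ • (α 1 • X 1) = _
    rw [hX1, smul_smul, smul_smul, hγ, mul_assoc]
  rw [e, smul_mul_smul_comm, mul_one] at h1
  have hγ0 : γ ≠ 0 := mul_ne_zero (inv_ne_zero (hf0 1))
    (mul_ne_zero (hα0 1) (Nat.cast_ne_zero.2 hn0.ne'))
  have hγ1 : γ * γ = γ := smul_left_injective ℂ (one_ne_zero (α := Module.End ℂ (U → ℂ))) h1
  rw [e, show γ = 1 from (mul_eq_left₀ hγ0).1 hγ1, one_smul]


theorem fixPts_inv (φ : H →* MulAut U) (h : H) : fixPts φ h⁻¹ = fixPts φ h := by
  ext x
  simp only [mem_fixPts, map_inv]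
  constructor <;> intro hx
  · conv_lhs => rw [← hx]
    exact (φ h).apply_symm_apply x
  · conv_lhs => rw [← hx]
    exact (φ h).symm_apply_apply x

include halt in
theorem coeff_const (hτ : IsForm p φ τ) (hp2 : p ≠ 2) (h : H) {u u' : U}
    (he : displ φ h u = displ φ h u') : τ (φ h u) u⁻¹ = τ (φ h u') u'⁻¹ := by
  have hu : u⁻¹ * u' ∈ fixPts φ h := by
    rw [← ker_displ, MonoidHom.mem_ker, map_mul, map_inv, he, inv_mul_cancel]
  obtain ⟨c, hc', rfl⟩ : ∃ c ∈ fixPts φ h, u' = u * c := ⟨u⁻¹ * u', hu, by rw [mul_inv_cancel_left]⟩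
  have hcf : φ h c = c := hc'
  rw [hτ.inv_right, hτ.inv_right, map_mul, hcf, hτ.mul_left, hτ.mul_right, hτ.mul_right,
    tau_self halt hτ hp2 c, mul_one]
  have h2 : τ (φ h u) c = τ u c := by
    conv_lhs => rw [← hcf]
    exact hτ.invariant h u c
  rw [h2, mul_assoc, halt u c, mul_one]

/-- The symplectic case. -/
theorem sqrtIndex_symplectic (hexp : ∀ x : U, x ^ p = 1) (hcop : ¬ p ∣ Nat.card H) (hp2 : p ≠ 2)
    (hHN : Nat.card H ∣ N) (hτ : IsForm p φ τ) (halt : ∀ a b, τ a b * τ b a = 1) (hnd : Nondeg τ) :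
    SqrtIndex N p φ := by
  obtain ⟨β, W, hW⟩ := exists_weil halt hτ hp2 hnd hexp hcop
  set n := Nat.card U with hn
  have hn0 : (n : ℂ) ≠ 0 := Nat.cast_ne_zero.2 Nat.card_pos.ne'
  let C : H → ℂ := fun h => (Nat.card (fixPts φ h) : ℂ)
  have hC0 : ∀ h, C h ≠ 0 := fun h => Nat.cast_ne_zero.2 Nat.card_pos.ne'
  have hCinv : ∀ h, C h⁻¹ = C h := fun h => by show ((_ : ℕ) : ℂ) = _; rw [fixPts_inv]
  have hchi : ∀ h, W.character h = β h * ((n : ℂ) * C h) := fun h => by
    show LinearMap.trace ℂ _ (W h) = _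
    rw [hW, map_smul, smul_eq_mul, trace_twX hτ halt hp2]
  have hWchar := Char.isCharacter_character W
  have hbb : ∀ h, β h * β h⁻¹ * ((n : ℂ) * C h) = 1 := fun h => by
    have h1 : W h * W h⁻¹ = 1 := by rw [← map_mul, mul_inv_cancel, map_one]
    rw [hW, hW, smul_mul_smul_comm, twX_mul_inv halt hτ hp2 hnd, smul_smul] at h1
    refine smul_left_injective ℂ (one_ne_zero (α := Module.End ℂ (U → ℂ))) ?_
    show (β h * β h⁻¹ * ((n : ℂ) * C h)) • (1 : Module.End ℂ (U → ℂ)) = (1 : ℂ) • 1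
    rw [one_smul]
    exact h1
  have hconj : ∀ h, conj (β h) = β h⁻¹ := fun h => by
    have h1 := CharInt.char_inv hWchar h
    rw [hchi, hchi, hCinv, map_mul, map_mul] at h1
    simp only [C, map_natCast] at h1
    exact (mul_right_cancel₀ (mul_ne_zero hn0 (hC0 h)) h1).symm
  let E : H → ℂ := fun h => (n : ℂ) * β h
  have hEconj : ∀ h, conj (E h) = E h⁻¹ := fun h => by
    show conj ((n : ℂ) * β h) = _
    rw [map_mul, map_natCast, hconj]
  -- a power of `conj E` is a coefficient of a power of the normalised intertwiner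
  have key : ∀ h, ∃ s : ℂ, IsIntegral ℤ s ∧ conj (E h) ^ orderOf h = s ∧
      (fixPts φ h ≠ ⊤ → ∀ M : Ideal AlgInt, M.IsMaximal → (p : AlgInt) ∈ M →
        MemLocalIdeal M s) := by
    intro h
    set d := displ φ h with hd
    set Wf : Finset U := Finset.univ.image d with hWf
    have hrep : ∀ w : U, ∃ u, w ∈ Wf → d u = w := fun w => by
      by_cases hw : w ∈ Wf
      · obtain ⟨u, -, hu⟩ := Finset.mem_image.1 hw
        exact ⟨u, fun _ => hu⟩
      · exact ⟨1, fun h' => absurd h' hw⟩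
    choose rep hrep using hrep
    let κ : U → ℂ := fun w => τ (φ h (rep w)) (rep w)⁻¹
    let Y : Module.End ℂ (U → ℂ) := ∑ w ∈ Wf, κ w • twL τ w
    have hXY : twX φ τ h = C h • Y := by
      show ∑ u, twL τ (φ h u) * twL τ u⁻¹ = _
      rw [Finset.sum_congr rfl (g := fun u => τ (φ h u) u⁻¹ • twL τ (d u))
        (fun u _ => twL_mul hτ _ _),
        ← Finset.sum_fiberwise_of_maps_to (t := Wf) (g := fun u => d u)
          (fun u _ => Finset.mem_image_of_mem _ (Finset.mem_univ u)), Finset.smul_sum]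
      refine Finset.sum_congr rfl fun w hw => ?_
      rw [Finset.sum_congr rfl (g := fun _ => κ w • twL τ w) fun u hu => ?_, Finset.sum_const,
        ← Nat.cast_smul_eq_nsmul ℂ]
      · congr 1
        show ((_ : ℕ) : ℂ) = ((_ : ℕ) : ℂ)
        rw [Nat.card_eq_fintype_card, ← Finset.card_univ]
        congr 1
        refine Finset.card_bij (fun u hu => (⟨(rep w)⁻¹ * u, ?_⟩ : fixPts φ h))
          (fun u hu => Finset.mem_univ _) (fun a _ b _ he => mul_left_cancel (congrArg Subtype.val he))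
          (fun c _ => ⟨rep w * c, ?_, Subtype.ext (inv_mul_cancel_left _ _)⟩)
        · rw [← ker_displ, MonoidHom.mem_ker, map_mul, map_inv]
          show (d (rep w))⁻¹ * d u = 1
          rw [hrep w hw, (Finset.mem_filter.1 hu).2, inv_mul_cancel]
        · refine Finset.mem_filter.2 ⟨Finset.mem_univ _, ?_⟩
          have hc : d (c : U) = 1 := mul_inv_eq_one.2 c.2
          rw [map_mul, hc, mul_one, hrep w hw]
      · obtain ⟨-, hu⟩ := Finset.mem_filter.1 hu
        rw [coeff_const halt hτ hp2 h (u := u) (u' := rep w) (hu.trans (hrep w hw).symm), hu]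
    have hYint : ∀ g : U → ℂ, (∀ x, IsIntegral ℤ (g x)) → ∀ x, IsIntegral ℤ (Y g x) := by
      intro g hg x
      simp only [Y, LinearMap.sum_apply, Finset.sum_apply, LinearMap.smul_apply, Pi.smul_apply,
        smul_eq_mul]
      refine IsIntegral.sum _ fun w _ => IsIntegral.mul ?_ (IsIntegral.mul ?_ (hg _))
      · exact IsIntegral.of_pow hp.out.pos (hτ.pow_eq _ _ ▸ isIntegral_one)
      · exact IsIntegral.of_pow hp.out.pos (hτ.pow_eq _ _ ▸ isIntegral_one)
    let a : ℕ → U → ℂ := fun m => (Y ^ m) (Pi.single 1 1)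
    have ha0 : a 0 = Pi.single 1 1 := by simp [a]
    have hstep : ∀ m, a (m + 1) = Y (a m) := fun m => by
      show (Y ^ (m + 1)) _ = Y ((Y ^ m) _)
      rw [pow_succ', Module.End.mul_apply]
    have haint : ∀ m x, IsIntegral ℤ (a m x) := by
      intro m
      induction m with
      | zero =>
        intro x
        rw [ha0, Pi.single_apply]
        split_ifs
        · exact isIntegral_one
        · exact isIntegral_zero
      | succ m ih => intro x; rw [hstep]; exact hYint _ ih x
    have hq : W h = (β h * C h) • Y := by rw [hW, hXY, smul_smul]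
    have hs : (β h * C h) ^ orderOf h * a (orderOf h) 1 = 1 := by
      have h1 : W h ^ orderOf h = 1 := by rw [← map_pow, pow_orderOf_eq_one, map_one]
      rw [hq, smul_pow] at h1
      have h2 := congrFun (LinearMap.congr_fun h1 (Pi.single 1 1)) 1
      simpa using h2
    have hEq : conj (E h) * (β h * C h) = 1 := by
      rw [hEconj]
      show (n : ℂ) * β h⁻¹ * (β h * C h) = 1
      rw [← hbb h]; ring
    refine ⟨a (orderOf h) 1, haint _ _, ?_, fun hne M hM hpM => ?_⟩
    · calc conj (E h) ^ orderOf h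
          = conj (E h) ^ orderOf h * ((β h * C h) ^ orderOf h * a (orderOf h) 1) := by
            rw [hs, mul_one]
        _ = a (orderOf h) 1 := by rw [← mul_assoc, ← mul_pow, hEq, one_pow, one_mul]
    · haveI := hM
      haveI := charP_residue hpM
      have hloc : ∀ m x, MemLocalRing M (a m x) := fun m x =>
        memLocalRing_of_isIntegral (haint m x)
      have hroot : ∀ z w : U, red M (τ z w) = 1 := fun z w =>
        ((red_eq_iff (memLocalRing_of_isIntegral
          (IsIntegral.of_pow hp.out.pos (hτ.pow_eq z w ▸ isIntegral_one))) memLocalRing_one).2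
            (memLocalIdeal_sub_one hpM (hτ.pow_eq z w))).trans red_one
      have hredstep : ∀ m x, red M (a (m + 1) x) = ∑ w ∈ Wf, red M (a m (w⁻¹ * x)) := by
        intro m x
        have hr : ∀ z w : U, MemLocalRing M (τ z w) := fun z w => memLocalRing_of_isIntegral
          (IsIntegral.of_pow hp.out.pos (hτ.pow_eq z w ▸ isIntegral_one))
        rw [hstep]
        simp only [Y, LinearMap.sum_apply, Finset.sum_apply, LinearMap.smul_apply, Pi.smul_apply,
          smul_eq_mul]
        show red M (∑ w ∈ Wf, κ w * (τ w (w⁻¹ * x) * a m (w⁻¹ * x))) = _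
        rw [red_sum _ fun w _ => MemLocalRing.mul (hr _ _) (MemLocalRing.mul (hr _ _) (hloc _ _))]
        refine Finset.sum_congr rfl fun w _ => ?_
        rw [red_mul (hr _ _) (MemLocalRing.mul (hr _ _) (hloc _ _)), red_mul (hr _ _) (hloc _ _),
          hroot, hroot, one_mul, one_mul]
      have hWcard : p ∣ Wf.card := by
        have h1 : Wf.card = (fixPts φ h).index := by
          rw [← ker_displ, Subgroup.index_ker, ← Set.ncard_coe_finset, ← Nat.card_coe_set_eq]
          exact Nat.card_congr (Equiv.setCongr (by ext w; simp [hWf, hd]))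
        obtain ⟨k, hk⟩ := (IsPGroup.iff_card (p := p) (G := U)).1 fun x => ⟨1, by simpa using hexp x⟩
        obtain ⟨j, -, hj⟩ := (Nat.dvd_prime_pow hp.out).1 (hk ▸ (fixPts φ h).index_dvd_card)
        rcases Nat.eq_zero_or_pos j with rfl | hj'
        · exact absurd (Subgroup.index_eq_one.1 hj) hne
        · rw [h1, hj]; exact dvd_pow_self p hj'.ne'
      have ha1 : ∀ x, red M (a 1 x) = if x ∈ Wf then 1 else 0 := by
        intro x
        rw [hredstep 0]
        have e : ∀ w, red M (a 0 (w⁻¹ * x)) = if x = w then 1 else 0 := fun w => by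
          rw [ha0]
          by_cases hw : x = w
          · subst hw; simp
          · rw [if_neg hw, Pi.single_eq_of_ne (fun h' => hw (inv_mul_eq_one.1 h').symm), red_zero]
        rw [Finset.sum_congr rfl fun w _ => e w, Finset.sum_ite_eq]
      have ha2 : ∀ m x, red M (a (m + 2) x) = 0 := by
        intro m
        induction m with
        | zero =>
          intro x
          rw [hredstep 1, Finset.sum_congr rfl (g := fun _ =>
            if x ∈ Wf then (1 : AlgInt ⧸ M) else 0) fun w hw => ?_, Finset.sum_const, nsmul_eq_mul,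
            (CharP.cast_eq_zero_iff (AlgInt ⧸ M) p _).2 hWcard, zero_mul]
          rw [ha1]
          have hiff : w⁻¹ * x ∈ Wf ↔ x ∈ Wf := by
            obtain ⟨u, -, rfl⟩ := Finset.mem_image.1 hw
            simp only [hWf, Finset.mem_image, Finset.mem_univ, true_and]
            constructor
            · rintro ⟨v, hv⟩
              exact ⟨u * v, by rw [map_mul, hv, mul_inv_cancel_left]⟩
            · rintro ⟨v, rfl⟩
              exact ⟨u⁻¹ * v, by rw [map_mul, map_inv]⟩
          simp only [hiff]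
        | succ m ih =>
          intro x
          rw [hredstep, Finset.sum_eq_zero fun w _ => ih _]
      have ho : 2 ≤ orderOf h := by
        by_contra hcon
        have h1 : h = 1 := orderOf_eq_one_iff.1 (by have := orderOf_pos h; omega)
        exact hne (h1 ▸ fixPts_one φ)
      obtain ⟨m, hm⟩ := Nat.exists_eq_add_of_le' ho
      refine (red_eq_zero_iff (hloc _ _)).1 ?_
      rw [hm]
      exact ha2 m 1
  have hEpow : ∀ h, ∃ s : ℂ, IsIntegral ℤ s ∧ E h ^ orderOf h = s ∧
      (fixPts φ h ≠ ⊤ → ∀ M : Ideal AlgInt, M.IsMaximal → (p : AlgInt) ∈ M →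
        MemLocalIdeal M s) := fun h => by
    obtain ⟨s, h1, h2, h3⟩ := key h⁻¹
    rw [orderOf_inv, hEconj, inv_inv] at h2
    rw [fixPts_inv] at h3
    exact ⟨s, h1, h2, h3⟩
  have hEint : ∀ h, IsIntegral ℤ (E h) := fun h => by
    obtain ⟨s, hs, he, -⟩ := hEpow h
    exact IsIntegral.of_pow (orderOf_pos h) (he ▸ hs)
  obtain ⟨k, hk⟩ := (IsPGroup.iff_card (p := p) (G := U)).1 fun x => ⟨1, by simpa using hexp x⟩
  refine ⟨E, ?_, ?_, fun h => ⟨?_, ?_, fun hne M hM hpM => ?_⟩⟩
  · refine intVC_of_mul_eq hp.out hcop hEint (intVC_of_isCharacter (Char.IsCharacter.conj hWchar))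
      (k := k) fun h => ?_
    show (n : ℂ) * β h * conj (W.character h) = _
    rw [hchi, map_mul, hconj, map_mul]
    simp only [C, map_natCast]
    rw [← Nat.cast_pow, ← hk, ← hn]
    linear_combination (n : ℂ) * hbb h
  · have h1 : W 1 = 1 := map_one W
    have h2 := hchi 1
    rw [Representation.char_one, Module.finrank_fintype_fun_eq_card, ← Nat.card_eq_fintype_card,
      ← hn] at h2
    simp only [C, fixPts_one, Subgroup.card_top, ← hn] at h2
    show (n : ℂ) * β 1 = 1
    refine mul_right_cancel₀ hn0 ?_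
    linear_combination -h2
  · have e : E h = W.character h / C h := by
      rw [hchi, eq_div_iff (hC0 h)]
      show (n : ℂ) * β h * C h = _
      ring
    rw [e]
    exact (inCyc_character hWchar hHN h).div (inCyc_natCast N _)
  · apply Complex.ofReal_injective
    push_cast
    rw [← Complex.ofReal_pow, ← Complex.normSq_eq_norm_sq, ← Complex.mul_conj, hEconj]
    show (n : ℂ) * β h * ((n : ℂ) * β h⁻¹) * C h = (n : ℂ)
    linear_combination (n : ℂ) * hbb h
  · haveI := hM
    obtain ⟨s, -, he, h3⟩ := hEpow h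
    refine MemLocalIdeal.of_pow (n := orderOf h) (memLocalRing_of_isIntegral (hEint h)) ?_
    rw [he]
    exact h3 hne M hM hpM

end Cfsg.Agent.KGV
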