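import Cfsg.Agent.Lib.Char.Orthogonality
import Cfsg.Agent.Lib.Char.PRegular
import Cfsg.Agent.Lib.CharInt.Central
import Cfsg.Agent.Lib.CharInt.Basic
import Cfsg.Agent.Lib.CharInt.GaloisAverage

/-!
# Combinations of irreducible characters with algebraic integer coefficients

* `InCyc N`: the `N`-th cyclotomic field inside `ℂ`; a nonzero integral element has conjugates of
  absolute value at least one on average, and these conjugations commute with complex conjugation
  (`card_le_of_norm_sum`).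
* `IntVC f`: `f` is a combination of irreducible characters with algebraic integer coefficients.
  It contains the traces `h ↦ tr (T ρ h)` for `T` of finite order commuting with `ρ`
  (`intVC_trace`), and the inverse of such a function up to a power of `p` prime to the group order
  (`intVC_of_mul_eq`).
-/

set_option autoImplicit false
set_option linter.style.haveILetI false

namespace Cfsg.Agent.KGV

open Cfsg
open scoped ComplexConjugate

universe u v

section Cyclotomic

/-- The `N`-th cyclotomic field. -/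
noncomputable def cycField (N : ℕ) : IntermediateField ℚ ℂ := IntermediateField.adjoin ℚ {x : ℂ | x ^ N = 1}

/-- Membership in the `N`-th cyclotomic field. -/
def InCyc (N : ℕ) (z : ℂ) : Prop := z ∈ cycField N

theorem inCyc_of_pow_eq_one {N : ℕ} {z : ℂ} (h : z ^ N = 1) : InCyc N z :=
  IntermediateField.subset_adjoin ℚ _ h

theorem inCyc_of_pow_dvd {N n : ℕ} {z : ℂ} (hd : n ∣ N) (h : z ^ n = 1) : InCyc N z := by
  obtain ⟨k, rfl⟩ := hd
  exact inCyc_of_pow_eq_one (by rw [pow_mul, h, one_pow])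

theorem inCyc_natCast (N n : ℕ) : InCyc N (n : ℂ) := natCast_mem (cycField N) n

theorem inCyc_intCast (N : ℕ) (n : ℤ) : InCyc N (n : ℂ) := intCast_mem (cycField N) n

theorem InCyc.add {N : ℕ} {z w : ℂ} (hz : InCyc N z) (hw : InCyc N w) : InCyc N (z + w) :=
  add_mem (S := IntermediateField ℚ ℂ) hz hw

theorem InCyc.mul {N : ℕ} {z w : ℂ} (hz : InCyc N z) (hw : InCyc N w) : InCyc N (z * w) :=
  mul_mem (S := IntermediateField ℚ ℂ) hz hw

theorem InCyc.inv {N : ℕ} {z : ℂ} (hz : InCyc N z) : InCyc N z⁻¹ :=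
  inv_mem (S := IntermediateField ℚ ℂ) hz

theorem InCyc.div {N : ℕ} {z w : ℂ} (hz : InCyc N z) (hw : InCyc N w) : InCyc N (z / w) :=
  div_mem (S := IntermediateField ℚ ℂ) hz hw

theorem InCyc.sum {N : ℕ} {ι : Type*} (s : Finset ι) {f : ι → ℂ} (h : ∀ i ∈ s, InCyc N (f i)) :
    InCyc N (∑ i ∈ s, f i) := by
  show (∑ i ∈ s, f i) ∈ cycField N
  exact sum_mem h

theorem norm_eq_one_of_pow {N : ℕ} (hN : 0 < N) {z : ℂ} (h : z ^ N = 1) : ‖z‖ = 1 :=
  CharInt.norm_eq_one_of_pow_eq_one hN.ne' h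

theorem conj_eq_inv {N : ℕ} (hN : 0 < N) {z : ℂ} (h : z ^ N = 1) : conj z = z⁻¹ := by
  rw [Complex.inv_def, Complex.normSq_eq_norm_sq, norm_eq_one_of_pow hN h]
  simp

/-- Complex conjugation preserves the cyclotomic field and commutes with its embeddings. -/
theorem conj_mem_and_map {N : ℕ} (hN : 0 < N) {z : ℂ} (hz : InCyc N z) :
    InCyc N (conj z) ∧ ∀ (σ : cycField N →ₐ[ℚ] ℂ) (h₁ : InCyc N z) (h₂ : InCyc N (conj z)),
      σ ⟨conj z, h₂⟩ = conj (σ ⟨z, h₁⟩) := by
  induction hz using IntermediateField.adjoin_induction with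
  | mem x hx =>
    have hx' : x ^ N = 1 := hx
    refine ⟨inCyc_of_pow_eq_one (by rw [← map_pow, hx', map_one]), fun σ h₁ h₂ => ?_⟩
    have e : (⟨conj x, h₂⟩ : cycField N) = (⟨x, h₁⟩ : cycField N)⁻¹ :=
      Subtype.ext (by rw [IntermediateField.coe_inv]; exact conj_eq_inv hN hx')
    have hp : (σ ⟨x, h₁⟩) ^ N = 1 := by
      rw [← map_pow, show (⟨x, h₁⟩ : cycField N) ^ N = 1 from Subtype.ext hx', map_one]
    rw [e, map_inv₀, conj_eq_inv hN hp]
  | algebraMap q =>
    have hq : conj (algebraMap ℚ ℂ q) = algebraMap ℚ ℂ q := by simp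
    refine ⟨by rw [hq]; exact (cycField N).algebraMap_mem q, fun σ h₁ h₂ => ?_⟩
    rw [show (⟨conj (algebraMap ℚ ℂ q), h₂⟩ : cycField N) = algebraMap ℚ (cycField N) q from
        Subtype.ext hq,
      show (⟨algebraMap ℚ ℂ q, h₁⟩ : cycField N) = algebraMap ℚ (cycField N) q from Subtype.ext rfl,
      AlgHom.commutes]
    simp
  | add x y hx hy ihx ihy =>
    refine ⟨by rw [map_add]; exact InCyc.add ihx.1 ihy.1, fun σ h₁ h₂ => ?_⟩
    rw [show (⟨conj (x + y), h₂⟩ : cycField N) = ⟨conj x, ihx.1⟩ + ⟨conj y, ihy.1⟩ from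
        Subtype.ext (map_add _ x y),
      show (⟨x + y, h₁⟩ : cycField N) = ⟨x, hx⟩ + ⟨y, hy⟩ from Subtype.ext rfl,
      map_add, map_add, map_add, ihx.2 σ hx, ihy.2 σ hy]
  | inv x hx ihx =>
    refine ⟨by rw [map_inv₀]; exact InCyc.inv ihx.1, fun σ h₁ h₂ => ?_⟩
    rw [show (⟨conj x⁻¹, h₂⟩ : cycField N) = (⟨conj x, ihx.1⟩ : cycField N)⁻¹ from
        Subtype.ext (map_inv₀ _ x),
      show (⟨x⁻¹, h₁⟩ : cycField N) = (⟨x, hx⟩ : cycField N)⁻¹ from Subtype.ext rfl,
      map_inv₀, map_inv₀, map_inv₀, ihx.2 σ hx]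
  | mul x y hx hy ihx ihy =>
    refine ⟨by rw [map_mul]; exact InCyc.mul ihx.1 ihy.1, fun σ h₁ h₂ => ?_⟩
    rw [show (⟨conj (x * y), h₂⟩ : cycField N) = ⟨conj x, ihx.1⟩ * ⟨conj y, ihy.1⟩ from
        Subtype.ext (map_mul _ x y),
      show (⟨x * y, h₁⟩ : cycField N) = ⟨x, hx⟩ * ⟨y, hy⟩ from Subtype.ext rfl,
      map_mul, map_mul, map_mul, ihx.2 σ hx, ihy.2 σ hy]

/-- If nonzero cyclotomic integers `a i` have rational `∑ |a i| ^ 2`, this sum is at least their
number. -/
theorem card_le_of_norm_sum {N : ℕ} (hN : 0 < N) {ι : Type*} [Fintype ι] (a : ι → ℂ)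
    (hK : ∀ i, InCyc N (a i)) (hint : ∀ i, IsIntegral ℤ (a i)) (q : ℚ)
    (hq : ∑ i, ‖a i‖ ^ 2 = (q : ℝ)) (s : Finset ι) (hs : ∀ i ∈ s, a i ≠ 0) :
    (s.card : ℝ) ≤ (q : ℝ) := by
  classical
  have : NeZero N := ⟨hN.ne'⟩
  have : FiniteDimensional ℚ (cycField N) := by
    have hfin : {x : ℂ | x ^ N = 1}.Finite :=
      Set.Finite.subset (Polynomial.nthRootsFinset N (1 : ℂ)).finite_toSet fun x hx =>
        (Polynomial.mem_nthRootsFinset hN 1).2 hx
    have : Finite {x : ℂ | x ^ N = 1} := hfin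
    exact IntermediateField.finiteDimensional_adjoin fun x hx =>
      (IsIntegral.of_pow hN ((show x ^ N = 1 from hx) ▸ isIntegral_one) :
        IsIntegral ℤ x).tower_top
  let A : ι → cycField N := fun i => ⟨a i, hK i⟩
  let B : ι → cycField N := fun i => ⟨conj (a i), (conj_mem_and_map hN (hK i)).1⟩
  have hAB : ∑ i, A i * B i = algebraMap ℚ (cycField N) q := by
    apply Subtype.ext
    show ((∑ i, A i * B i : cycField N) : ℂ) = algebraMap ℚ ℂ q
    have h : (∑ i, A i * B i : cycField N).1 = ∑ i, a i * conj (a i) := by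
      rw [IntermediateField.coe_sum]
      rfl
    rw [h]
    simp only [Complex.mul_conj, Complex.normSq_eq_norm_sq, ← Complex.ofReal_sum, hq]
    simp
  have hσ : ∀ σ : cycField N →ₐ[ℚ] ℂ, ∑ i, ‖σ (A i)‖ ^ 2 = (q : ℝ) := by
    intro σ
    apply Complex.ofReal_injective
    have h := congrArg σ hAB
    rw [map_sum, AlgHom.commutes] at h
    simp only [map_mul] at h
    have e : ∀ i, σ (B i) = conj (σ (A i)) := fun i =>
      (conj_mem_and_map hN (hK i)).2 σ (hK i) (conj_mem_and_map hN (hK i)).1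
    simp only [e, Complex.mul_conj, Complex.normSq_eq_norm_sq] at h
    push_cast at h ⊢
    simpa using h
  have hpos : (0 : ℝ) < (Fintype.card (cycField N →ₐ[ℚ] ℂ) : ℝ) := by
    have : Nonempty (cycField N →ₐ[ℚ] ℂ) := ⟨(cycField N).val⟩
    exact_mod_cast Fintype.card_pos
  refine le_of_mul_le_mul_right ?_ hpos
  calc (s.card : ℝ) * (Fintype.card (cycField N →ₐ[ℚ] ℂ) : ℝ)
      ≤ ∑ i ∈ s, ∑ σ : cycField N →ₐ[ℚ] ℂ, ‖σ (A i)‖ ^ 2 := by
        rw [← nsmul_eq_mul, ← Finset.sum_const]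
        refine Finset.sum_le_sum fun i hi => CharInt.card_le_sum_norm_sq_embeddings ?_ ?_
        · exact (isIntegral_algHom_iff ((cycField N).val.restrictScalars ℤ)
            Subtype.val_injective).1 (hint i)
        · exact fun h => hs i hi (congrArg Subtype.val h)
    _ ≤ ∑ i, ∑ σ : cycField N →ₐ[ℚ] ℂ, ‖σ (A i)‖ ^ 2 :=
        Finset.sum_le_sum_of_subset_of_nonneg (Finset.subset_univ s) fun i _ _ =>
          Finset.sum_nonneg fun σ _ => sq_nonneg _
    _ = (q : ℝ) * (Fintype.card (cycField N →ₐ[ℚ] ℂ) : ℝ) := by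
        rw [Finset.sum_comm, Finset.sum_congr rfl fun σ _ => hσ σ, Finset.sum_const,
          Finset.card_univ, nsmul_eq_mul, mul_comm]

end Cyclotomic

section Virtual

variable {H : Type u} [Group H] [Fintype H]

/-- A combination of irreducible characters with algebraic integer coefficients. -/
def IntVC (f : H → ℂ) : Prop :=
  ∃ a : IrrCharacter H → ℂ, (∀ χ, IsIntegral ℤ (a χ)) ∧ f = ∑ χ, a χ • χ.1

theorem IntVC.isClassFunction {f : H → ℂ} (h : IntVC f) : IsClassFunction H f := by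
  obtain ⟨a, -, rfl⟩ := h
  intro x y
  simp only [Finset.sum_apply, Pi.smul_apply]
  exact Finset.sum_congr rfl fun χ _ => by
    rw [Char.IsCharacter.isClassFunction (Char.irr_isCharacter χ) x y]

theorem IntVC.isIntegral_apply {f : H → ℂ} (h : IntVC f) (x : H) : IsIntegral ℤ (f x) := by
  obtain ⟨a, ha, rfl⟩ := h
  simp only [Finset.sum_apply, Pi.smul_apply, smul_eq_mul]
  exact IsIntegral.sum _ fun χ _ =>
    (ha χ).mul (CharInt.isIntegral_char (Char.irr_isCharacter χ) x)

theorem intVC_of_isCharacter {f : H → ℂ} (h : IsCharacter H f) : IntVC f := by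
  obtain ⟨m, hm, -⟩ := Char.IsCharacter.exists_decomp h
  refine ⟨fun χ => (m χ : ℂ), fun χ => ?_, hm⟩
  simpa using (isIntegral_algebraMap : IsIntegral ℤ (algebraMap ℤ ℂ (m χ : ℤ)))

theorem intVC_zero : IntVC (0 : H → ℂ) := ⟨0, fun _ => isIntegral_zero, by simp⟩

theorem intVC_one : IntVC (1 : H → ℂ) := intVC_of_isCharacter Char.isCharacter_one

theorem IntVC.add {f g : H → ℂ} (hf : IntVC f) (hg : IntVC g) : IntVC (f + g) := by
  obtain ⟨a, ha, rfl⟩ := hf
  obtain ⟨b, hb, rfl⟩ := hg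
  exact ⟨a + b, fun χ => (ha χ).add (hb χ), by
    simp [add_smul, Finset.sum_add_distrib]⟩

theorem IntVC.smul {f : H → ℂ} {c : ℂ} (hc : IsIntegral ℤ c) (hf : IntVC f) : IntVC (c • f) := by
  obtain ⟨a, ha, rfl⟩ := hf
  exact ⟨c • a, fun χ => hc.mul (ha χ), by simp [Finset.smul_sum, smul_smul]⟩

theorem IntVC.sum {ι : Type*} (s : Finset ι) {f : ι → H → ℂ} (h : ∀ i ∈ s, IntVC (f i)) :
    IntVC (∑ i ∈ s, f i) := by
  classical
  induction s using Finset.induction with
  | empty => simpa using intVC_zero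
  | insert i s hi ih =>
    rw [Finset.sum_insert hi]
    exact IntVC.add (h i (Finset.mem_insert_self _ _))
      (ih fun j hj => h j (Finset.mem_insert_of_mem hj))

theorem IntVC.mul {f g : H → ℂ} (hf : IntVC f) (hg : IntVC g) : IntVC (f * g) := by
  obtain ⟨a, ha, rfl⟩ := hf
  obtain ⟨b, hb, rfl⟩ := hg
  rw [Finset.sum_mul_sum]
  refine IntVC.sum _ fun χ _ => IntVC.sum _ fun ψ _ => ?_
  rw [smul_mul_smul_comm]
  exact IntVC.smul ((ha χ).mul (hb ψ)) (intVC_of_isCharacter
    (Char.IsCharacter.mul (Char.irr_isCharacter χ) (Char.irr_isCharacter ψ)))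

theorem IntVC.isIntegral_classInner {f : H → ℂ} (hf : IntVC f) (φ : IrrCharacter H) :
    IsIntegral ℤ (classInner f φ.1) := by
  obtain ⟨a, ha, rfl⟩ := hf
  rw [Char.classInner_sum_irr_left]
  exact ha φ

theorem intVC_of_classInner {f : H → ℂ} (hf : IsClassFunction H f)
    (h : ∀ φ : IrrCharacter H, IsIntegral ℤ (classInner f φ.1)) : IntVC f :=
  ⟨fun φ => classInner f φ.1, h, Char.eq_sum_classInner_smul hf⟩

theorem IntVC.pow {f : H → ℂ} (hf : IntVC f) (n : ℕ) : IntVC (f ^ n) := by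
  induction n with
  | zero => simpa using intVC_one
  | succ n ih => rw [pow_succ]; exact IntVC.mul ih hf

/-- An integral function which is a power of `p` divided by a member is a member, when `p` is
prime to the group order. -/
theorem intVC_of_mul_eq {p : ℕ} (hp : p.Prime) (hcop : ¬ p ∣ Nat.card H) {E S : H → ℂ}
    (hE : ∀ h, IsIntegral ℤ (E h)) (hS : IntVC S) {k : ℕ} (hES : ∀ h, E h * S h = (p : ℂ) ^ k) :
    IntVC E := by
  classical
  have hp0 : (p : ℂ) ^ k ≠ 0 := pow_ne_zero _ (Nat.cast_ne_zero.2 hp.ne_zero)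
  have hS0 : ∀ h, S h ≠ 0 := fun h h0 => hp0 (by rw [← hES h, h0, mul_zero])
  have hEcf : IsClassFunction H E := fun x y => by
    have h1 := hES (y * x * y⁻¹)
    rw [IntVC.isClassFunction hS x y, ← hES x] at h1
    exact mul_right_cancel₀ (hS0 x) h1
  -- the polynomial with roots the values of `S`
  let P : Polynomial ℂ := ∏ h : H, (Polynomial.X - Polynomial.C (S h))
  let O : Subalgebra ℤ ℂ := integralClosure ℤ ℂ
  have hcoef : ∀ i, P.coeff i ∈ O := by
    have hP : P = ((∏ h : H, (Polynomial.X -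
        Polynomial.C (⟨S h, hS.isIntegral_apply h⟩ : O))) : Polynomial O).map
          (algebraMap O ℂ) := by
      simp [P, Polynomial.map_prod]
    intro i
    rw [hP, Polynomial.coeff_map]
    exact Subtype.prop _
  have heval : ∀ h, P.eval (S h) = 0 := fun h => by
    rw [Polynomial.eval_prod]
    exact Finset.prod_eq_zero (Finset.mem_univ h) (by simp)
  set d := P.natDegree with hd
  let Q : H → ℂ := ∑ i ∈ Finset.range d, P.coeff (i + 1) • S ^ i
  have hQ : IntVC Q := IntVC.sum _ fun i _ => IntVC.smul (hcoef (i + 1)) (IntVC.pow hS i)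
  have hkey : ((P.coeff 0) • E : H → ℂ) = (-((p : ℂ) ^ k)) • Q := by
    funext h
    have h1 := heval h
    rw [Polynomial.eval_eq_sum_range, Finset.sum_range_succ'] at h1
    have h2 : Q h * S h = -P.coeff 0 := by
      simp only [Q, Finset.sum_apply, Pi.smul_apply, Pi.pow_apply, smul_eq_mul, Finset.sum_mul]
      rw [pow_zero, mul_one] at h1
      rw [← eq_neg_of_add_eq_zero_left h1]
      exact Finset.sum_congr rfl fun i _ => by ring
    have h3 := hES h
    refine mul_right_cancel₀ (hS0 h) ?_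
    simp only [Pi.smul_apply, smul_eq_mul]
    rw [mul_assoc, h3, mul_assoc, h2]
    ring
  refine intVC_of_classInner hEcf fun φ => ?_
  set x := classInner E φ.1 with hx
  -- the group order clears the denominators
  have h1 : IsIntegral ℤ ((Nat.card H : ℂ) * x) := by
    rw [hx, classInner, ← mul_assoc, mul_inv_cancel₀ Char.card_ne_zero, one_mul]
    exact IsIntegral.sum _ fun h _ => (hE h).mul
      ((CharInt.isIntegral_char (Char.irr_isCharacter φ) h).map
        ((starRingEnd ℂ).toIntAlgHom))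
  -- so does a power of `p`
  have h2 : IsIntegral ℤ ((p : ℂ) ^ (k * Fintype.card H) * x) := by
    have h3 : IsIntegral ℤ (P.coeff 0 * x) := by
      rw [hx, ← Char.classInner_smul_left, hkey]
      exact IntVC.isIntegral_classInner
        (IntVC.smul ((IsIntegral.pow (by
          simpa using (isIntegral_algebraMap : IsIntegral ℤ (algebraMap ℤ ℂ (p : ℤ)))) k).neg) hQ) φ
    have h4 : (p : ℂ) ^ (k * Fintype.card H) =
        (-1) ^ Fintype.card H * (∏ h : H, E h) * P.coeff 0 := by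
      have h5 : P.coeff 0 = (-1) ^ Fintype.card H * ∏ h : H, S h := by
        rw [Polynomial.coeff_zero_eq_eval_zero, Polynomial.eval_prod]
        simp [Finset.prod_neg]
      rw [h5, pow_mul, ← Finset.card_univ, ← Finset.prod_const]
      rw [Finset.prod_congr rfl (fun h _ => (hES h).symm), Finset.prod_mul_distrib]
      have : ((-1 : ℂ) ^ (Finset.univ : Finset H).card) * (-1) ^ (Finset.univ : Finset H).card = 1 := by
        rw [← mul_pow]; simp
      linear_combination (-(∏ x : H, E x) * ∏ x : H, S x) * this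
    rw [h4, mul_assoc]
    exact ((isIntegral_one.neg.pow _).mul (IsIntegral.prod _ fun h _ => hE h)).mul h3
  have hco : Nat.Coprime (Nat.card H) (p ^ (k * Fintype.card H)) :=
    Nat.Coprime.pow_right _ ((hp.coprime_iff_not_dvd).2 hcop).symm
  obtain ⟨a, b, hab⟩ := (Int.isCoprime_iff_nat_coprime.2 (by
    simpa using hco) : IsCoprime (Nat.card H : ℤ) ((p ^ (k * Fintype.card H) : ℕ) : ℤ))
  have hab' : (a : ℂ) * (Nat.card H : ℂ) + (b : ℂ) * (p : ℂ) ^ (k * Fintype.card H) = 1 := by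
    have := congrArg (fun z : ℤ => (z : ℂ)) hab
    push_cast at this
    exact this
  have hz : ∀ z : ℤ, IsIntegral ℤ (z : ℂ) := fun z => by
    simpa using (isIntegral_algebraMap : IsIntegral ℤ (algebraMap ℤ ℂ z))
  rw [show x = (a : ℂ) * ((Nat.card H : ℂ) * x) +
    (b : ℂ) * ((p : ℂ) ^ (k * Fintype.card H) * x) by linear_combination -x * hab']
  exact ((hz a).mul h1).add ((hz b).mul h2)

variable {N : ℕ}

theorem inCyc_character {χ : H → ℂ} (hχ : IsCharacter H χ) (hN : Nat.card H ∣ N) (h : H) :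
    InCyc N (χ h) := by
  obtain ⟨n, μ, -, hμ, hval⟩ := CharInt.exists_roots hχ h
  rw [← pow_one h, hval 1]
  exact InCyc.sum _ fun i _ => inCyc_of_pow_dvd ((orderOf_dvd_natCard h).trans hN)
    (by rw [pow_one]; exact hμ i)

/-- The trace of a representation times a commuting operator of finite order. -/
theorem intVC_trace {V : Type v} [AddCommGroup V] [Module ℂ V] [FiniteDimensional ℂ V]
    (ρ : Representation ℂ H V) (T : Module.End ℂ V) {n : ℕ} (hn : 0 < n) (hT : T ^ n = 1)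
    (hcomm : ∀ h, Commute T (ρ h)) :
    IntVC (fun h => LinearMap.trace ℂ V (T * ρ h)) ∧
      (n ∣ N → Nat.card H ∣ N → ∀ h, InCyc N (LinearMap.trace ℂ V (T * ρ h))) := by
  let t : (Module.End ℂ V)ˣ := Units.ofPowEqOne T n hT hn.ne'
  have htn : t ^ n = 1 := Units.ext (by simpa [t] using hT)
  let Z : Subgroup (Module.End ℂ V)ˣ := Subgroup.zpowers t
  haveI : Finite Z := (orderOf_pos_iff.1 (Nat.pos_of_dvd_of_pos (orderOf_dvd_of_pow_eq_one htn) hn)
    ).finite_zpowers.to_subtype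
  haveI := Fintype.ofFinite Z
  let ι : Z →* Module.End ℂ V := (Units.coeHom _).comp Z.subtype
  let P : Representation ℂ (Z × H) V := MonoidHom.noncommCoprod ι ρ fun z h => by
    obtain ⟨z, hz⟩ := z
    obtain ⟨i, rfl⟩ := Subgroup.mem_zpowers_iff.1 hz
    have hc : Commute (t : Module.End ℂ V) (ρ h) := hcomm h
    exact hc.units_zpow_left i
  haveI := Fintype.ofFinite (Z × H)
  obtain ⟨m, hm, -⟩ := Char.IsCharacter.exists_decomp (Char.isCharacter_character P)
  set z₀ : Z := ⟨t, Subgroup.mem_zpowers t⟩ with hz₀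
  have hz : ((z₀, (1 : H)) : Z × H) ∈ Subgroup.center (Z × H) := by
    rw [Subgroup.mem_center_iff]
    rintro ⟨⟨z, hzm⟩, h⟩
    obtain ⟨i, rfl⟩ := Subgroup.mem_zpowers_iff.1 hzm
    refine Prod.ext (Subtype.ext ?_) (by simp)
    exact (Commute.zpow_self t i).eq
  have hc : ∀ ψ : IrrCharacter (Z × H), ∃ c : ℂ, c ^ n = 1 ∧
      ∀ h, ψ.1 (z₀, h) = c * ψ.1 (1, h) := by
    intro ψ
    obtain ⟨d, σ, hσ, hψ⟩ := ψ.2
    haveI := hσ
    haveI := CharInt.nontrivial_of_irreducible σ
    obtain ⟨c, hc⟩ := CharInt.exists_smul_one_of_mem_center σ hz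
    refine ⟨c, ?_, fun h => ?_⟩
    · have h1 : σ (z₀, 1) ^ n = 1 := by
        rw [← map_pow, show ((z₀, (1 : H)) : Z × H) ^ n = 1 from
          Prod.ext (Subtype.ext (by simpa [hz₀] using htn)) (one_pow n), map_one]
      rw [hc, smul_pow, one_pow] at h1
      have h2 : (c ^ n - 1) • (1 : Module.End ℂ (Fin d → ℂ)) = 0 := by
        rw [sub_smul (M := Module.End ℂ (Fin d → ℂ)) (c ^ n) (1 : ℂ) 1, h1, one_smul, sub_self]
      exact sub_eq_zero.1 ((smul_eq_zero.1 h2).resolve_right one_ne_zero)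
    · have e : ((z₀, h) : Z × H) = (z₀, 1) * (1, h) := by simp
      rw [← hψ]
      show LinearMap.trace ℂ _ (σ (z₀, h)) = c * LinearMap.trace ℂ _ (σ (1, h))
      rw [e, map_mul, hc, smul_mul_assoc, one_mul, map_smul, smul_eq_mul]
  choose c hcn hcv using hc
  have hf : (fun h => LinearMap.trace ℂ V (T * ρ h)) =
      ∑ ψ : IrrCharacter (Z × H), (((m ψ : ℕ) : ℂ) * c ψ) • fun h : H => ψ.1 (1, h) := by
    funext h
    have e : P (z₀, h) = T * ρ h := by simp [P, ι, hz₀, t]
    have h1 : P.character (z₀, h) = LinearMap.trace ℂ V (T * ρ h) := by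
      show LinearMap.trace ℂ V (P (z₀, h)) = _
      rw [e]
    rw [← h1, hm]
    simp only [Finset.sum_apply, Pi.smul_apply, smul_eq_mul, hcv, mul_assoc]
  have hchar : ∀ ψ : IrrCharacter (Z × H), IsCharacter H (fun h : H => ψ.1 (1, h)) := fun ψ =>
    Char.IsCharacter.comp (Char.irr_isCharacter ψ) (MonoidHom.inr Z H)
  refine ⟨?_, fun hnN hHN h => ?_⟩
  · rw [hf]
    refine IntVC.sum _ fun ψ _ => IntVC.smul (IsIntegral.mul ?_ ?_) (intVC_of_isCharacter (hchar ψ))
    · simpa using (isIntegral_algebraMap : IsIntegral ℤ (algebraMap ℤ ℂ (m ψ : ℤ)))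
    · exact IsIntegral.of_pow hn (hcn ψ ▸ isIntegral_one)
  · rw [congrFun hf h]
    simp only [Finset.sum_apply, Pi.smul_apply, smul_eq_mul]
    exact InCyc.sum _ fun ψ _ => ((inCyc_natCast N _).mul (inCyc_of_pow_dvd hnN (hcn ψ))).mul
      (inCyc_character (hchar ψ) hHN h)

end Virtual

end Cfsg.Agent.KGV
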